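import Groth.Agent.Lib.HilbSam.Asymp
import Mathlib.RingTheory.Ideal.AssociatedPrime.Finiteness
import Mathlib.RingTheory.Localization.AtPrime.Basic
import Mathlib.Algebra.Module.LocalizedModule.Exact

/-!
# The associativity formula for multiplicities
-/

set_option autoImplicit false

noncomputable section

open Filter Topology

namespace GrothLib.HilbSam

universe u

variable {A : Type u} [CommRing A]

theorem isSimpleModule_localized_self (p : PrimeSpectrum A) :
    IsSimpleModule (Localization.AtPrime p.asIdeal) (LocalizedModule p.asIdeal.primeCompl (A ⧸ p.asIdeal)) := by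
  have hne : Nontrivial (LocalizedModule p.asIdeal.primeCompl (A ⧸ p.asIdeal)) := by
    have : p ∈ Module.support A (A ⧸ p.asIdeal) := by
      rw [Module.support_eq_zeroLocus, Ideal.annihilator_quotient, PrimeSpectrum.mem_zeroLocus]
    exact this
  refine isSimpleModule_iff_toSpanSingleton_surjective.mpr ⟨hne, fun w hw z => ?_⟩
  induction w using LocalizedModule.induction_on with
  | h w s =>
    induction z using LocalizedModule.induction_on with
    | h z t =>
      obtain ⟨a, rfl⟩ := Ideal.Quotient.mk_surjective w
      obtain ⟨b, rfl⟩ := Ideal.Quotient.mk_surjective z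
      have ha : a ∈ p.asIdeal.primeCompl := fun ha => hw (by
        rw [Ideal.Quotient.eq_zero_iff_mem.mpr ha, LocalizedModule.zero_mk])
      refine ⟨Localization.mk (b * s) (⟨a, ha⟩ * t), ?_⟩
      rw [LinearMap.toSpanSingleton_apply, LocalizedModule.mk_smul_mk, LocalizedModule.mk_eq]
      refine ⟨1, ?_⟩
      simp only [one_smul, Submonoid.smul_def, Submonoid.coe_mul]
      rw [← Ideal.Quotient.mk_eq_mk, ← Ideal.Quotient.mk_eq_mk, ← Submodule.Quotient.mk_smul,
        ← Submodule.Quotient.mk_smul, ← Submodule.Quotient.mk_smul]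
      congr 1
      simp only [smul_eq_mul]
      ring

variable [IsNoetherianRing A]

theorem not_mem_support_of_dim {p q : PrimeSpectrum A} {d : ℕ}
    (hp : ringKrullDim (A ⧸ p.asIdeal) = d) (hq : Module.supportDim A (A ⧸ q.asIdeal) ≤ d)
    (hne : q ≠ p) : p ∉ Module.support A (A ⧸ q.asIdeal) := by
  intro hmem
  rw [Module.support_eq_zeroLocus, Ideal.annihilator_quotient, PrimeSpectrum.mem_zeroLocus] at hmem
  have hlt : q.asIdeal < p.asIdeal := lt_of_le_of_ne hmem fun e => hne (PrimeSpectrum.ext e)
  obtain ⟨x, hxp, hxq⟩ := Set.exists_of_ssubset (show (q.asIdeal : Set A) ⊂ p.asIdeal from hlt)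
  have h1 : Module.supportDim A (QuotSMulTop x (A ⧸ q.asIdeal)) + 1 ≤
      Module.supportDim A (A ⧸ q.asIdeal) := by
    refine Module.supportDim_quotSMulTop_succ_le_of_notMem_minimalPrimes fun r hr => ?_
    rw [Ideal.annihilator_quotient, Ideal.minimalPrimes_eq_subsingleton_self,
      Set.mem_singleton_iff] at hr
    exact hr ▸ hxq
  have hsub : Module.support A (A ⧸ p.asIdeal) ⊆
      Module.support A (QuotSMulTop x (A ⧸ q.asIdeal)) := by
    intro r hr
    rw [Module.support_eq_zeroLocus, Ideal.annihilator_quotient, PrimeSpectrum.mem_zeroLocus] at hr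
    rw [Module.support_quotSMulTop, Set.mem_inter_iff, Module.support_eq_zeroLocus,
      Ideal.annihilator_quotient, PrimeSpectrum.mem_zeroLocus, PrimeSpectrum.mem_zeroLocus,
      Set.singleton_subset_iff]
    exact ⟨fun a ha => hr (hlt.le ha), hr hxp⟩
  have h2 : Module.supportDim A (A ⧸ p.asIdeal) ≤ Module.supportDim A (QuotSMulTop x (A ⧸ q.asIdeal)) :=
    Order.krullDim_le_of_strictMono (fun r => ⟨r.1, hsub r.2⟩) fun _ _ h => h
  rw [Module.supportDim_quotient_eq_ringKrullDim, hp] at h2
  have h3 := ((add_le_add_left h2 1).trans h1).trans hq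
  have h4 : d + 1 ≤ d := by exact_mod_cast h3
  omega

open scoped Classical in
/-- The weighted local lengths appearing in the associativity formula. -/
def wgt (d : ℕ) (e : PrimeSpectrum A → ℝ) (N : Type u) [AddCommGroup N] [Module A N]
    (p : PrimeSpectrum A) : ℝ :=
  if ringKrullDim (A ⧸ p.asIdeal) = d then
    ((Module.length (Localization.AtPrime p.asIdeal) (LocalizedModule p.asIdeal.primeCompl N)).toNat : ℝ) * e p
  else 0

theorem tendsto_samuel_assoc {I : Ideal A} (hI : ∀ p : PrimeSpectrum A, I ≤ p.asIdeal → p.asIdeal.IsMaximal)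
    {d : ℕ} (e : PrimeSpectrum A → ℝ)
    (he : ∀ p : PrimeSpectrum A, ringKrullDim (A ⧸ p.asIdeal) = d →
      Tendsto (fun t : ℕ => (samuel I (A ⧸ p.asIdeal) t : ℝ) / (t : ℝ) ^ d) atTop (𝓝 (e p)))
    (M : Type u) [AddCommGroup M] [Module A M] [Module.Finite A M] (hd : Module.supportDim A M ≤ d) :
    (∀ p : PrimeSpectrum A, ringKrullDim (A ⧸ p.asIdeal) = d →
        Module.length (Localization.AtPrime p.asIdeal) (LocalizedModule p.asIdeal.primeCompl M) ≠ ⊤) ∧
      (wgt d e M).HasFiniteSupport ∧
      Tendsto (fun t : ℕ => (samuel I M t : ℝ) / (t : ℝ) ^ d) atTop (𝓝 (∑ᶠ p, wgt d e M p)) := by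
  classical
  induction ‹Module.Finite A M› using IsNoetherianRing.induction_on_isQuotientEquivQuotientPrime A with
  | subsingleton N =>
    have h0 : ∀ p : PrimeSpectrum A, Module.length (Localization.AtPrime p.asIdeal)
        (LocalizedModule p.asIdeal.primeCompl N) = 0 := fun p => by
      have : Subsingleton (LocalizedModule p.asIdeal.primeCompl N) :=
        Module.notMem_support_iff.mp (by rw [Module.support_eq_empty]; exact Set.notMem_empty _)
      exact Module.length_eq_zero
    have hw : wgt d e N = fun _ => 0 := funext fun p => by simp [wgt, h0]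
    refine ⟨fun p _ => by simp [h0], by rw [hw]; simp [Function.HasFiniteSupport], ?_⟩
    simp only [hw, finsum_zero, samuel, len, Module.length_eq_zero]
    simp
  | quotient N q φ =>
    have hdq : Module.supportDim A (A ⧸ q.asIdeal) ≤ d :=
      (Module.supportDim_eq_of_equiv φ.symm).le.trans hd
    have heq : ∀ p : PrimeSpectrum A, Module.length (Localization.AtPrime p.asIdeal)
        (LocalizedModule p.asIdeal.primeCompl N) = Module.length (Localization.AtPrime p.asIdeal)
        (LocalizedModule p.asIdeal.primeCompl (A ⧸ q.asIdeal)) := fun p =>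
      LinearEquiv.length_eq (IsLocalizedModule.mapEquiv p.asIdeal.primeCompl
        (LocalizedModule.mkLinearMap _ _) (LocalizedModule.mkLinearMap _ _) _ φ)
    have hval : ∀ p : PrimeSpectrum A, ringKrullDim (A ⧸ p.asIdeal) = d →
        Module.length (Localization.AtPrime p.asIdeal) (LocalizedModule p.asIdeal.primeCompl N) =
          if p = q then 1 else 0 := by
      intro p hp
      rw [heq]
      split
      · subst ‹p = q›
        have := isSimpleModule_localized_self p
        exact Module.length_eq_one _ _
      · have : Subsingleton (LocalizedModule p.asIdeal.primeCompl (A ⧸ q.asIdeal)) :=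
          Module.notMem_support_iff.mp (not_mem_support_of_dim hp hdq (Ne.symm ‹¬p = q›))
        exact Module.length_eq_zero
    have hsupp : ∀ p, p ≠ q → wgt d e N p = 0 := fun p hp => by
      unfold wgt
      split
      · rw [hval p ‹_›, if_neg hp]
        simp
      · rfl
    refine ⟨fun p hp => by rw [hval p hp]; split <;> simp, ?_, ?_⟩
    · exact (Set.finite_singleton q).subset fun p hp => by_contra fun h => hp (hsupp p h)
    rw [finsum_eq_single _ q hsupp]
    have hsam : ∀ t, samuel I N t = samuel I (A ⧸ q.asIdeal) t := fun t => by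
      rw [samuel, samuel, len, len]
      congr 2
      exact (Submodule.Quotient.equiv _ _ φ (map_pow_smul_top φ.toLinearMap φ.surjective t)).length_eq
    simp only [hsam]
    by_cases hqd : ringKrullDim (A ⧸ q.asIdeal) = d
    · simpa [wgt, hqd, hval q hqd] using he q hqd
    · rw [show wgt d e N q = 0 by simp [wgt, hqd]]
      refine tendsto_samuel_zero (IsDefining.of_forall hI _) (lt_of_le_of_ne hdq ?_)
      rwa [Module.supportDim_quotient_eq_ringKrullDim]
  | exact N₁ N₂ N₃ f g hf hg hfg ih₁ ih₃ =>
    obtain ⟨a1, b1, c1⟩ := ih₁ ((Module.supportDim_le_of_injective f hf).trans hd)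
    obtain ⟨a3, b3, c3⟩ := ih₃ ((Module.supportDim_le_of_surjective g hg).trans hd)
    have hlen : ∀ p : PrimeSpectrum A,
        Module.length (Localization.AtPrime p.asIdeal) (LocalizedModule p.asIdeal.primeCompl N₂) =
          Module.length (Localization.AtPrime p.asIdeal) (LocalizedModule p.asIdeal.primeCompl N₁) +
            Module.length (Localization.AtPrime p.asIdeal) (LocalizedModule p.asIdeal.primeCompl N₃) :=
      fun p => Module.length_eq_add_of_exact
        (LocalizedModule.map p.asIdeal.primeCompl f) (LocalizedModule.map p.asIdeal.primeCompl g)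
        (LocalizedModule.map_injective _ f hf) (LocalizedModule.map_surjective _ g hg)
        (LocalizedModule.map_exact _ f g hfg)
    have hw : wgt d e N₂ = fun p => wgt d e N₁ p + wgt d e N₃ p := funext fun p => by
      unfold wgt
      split
      · rw [hlen, ENat.toNat_add (a1 p ‹_›) (a3 p ‹_›)]
        push_cast
        ring
      · simp
    refine ⟨fun p hp => by rw [hlen]; exact WithTop.add_ne_top.mpr ⟨a1 p hp, a3 p hp⟩, ?_, ?_⟩
    · rw [hw]; exact b1.add b3
    rw [hw, finsum_add_distrib b1 b3]
    exact tendsto_samuel_add (IsDefining.of_forall hI _) f g hf hg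
      (LinearMap.exact_iff.mp hfg).symm c1 c3

end GrothLib.HilbSam
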