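import Groth.Agent.Lib.HilbSam.Degree
import Mathlib.RingTheory.LocalRing.MaximalIdeal.Basic

/-!
# Multiplicities: limits of Hilbert–Samuel functions
-/

set_option autoImplicit false

noncomputable section

open Filter Polynomial Topology

namespace GrothLib.HilbSam

universe u

variable {A : Type u} [CommRing A]

theorem maximal_of_pow_le [IsLocalRing A] {I : Ideal A} {n : ℕ}
    (h : IsLocalRing.maximalIdeal A ^ n ≤ I) (p : PrimeSpectrum A) (hp : I ≤ p.asIdeal) :
    p.asIdeal.IsMaximal := by
  have : IsLocalRing.maximalIdeal A ≤ p.asIdeal := p.2.le_of_pow_le (h.trans hp)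
  rw [← (IsLocalRing.maximalIdeal.isMaximal A).eq_of_le p.2.ne_top this]
  exact IsLocalRing.maximalIdeal.isMaximal A

theorem IsDefining.of_pow_le [IsLocalRing A] {I : Ideal A} {n : ℕ}
    (h : IsLocalRing.maximalIdeal A ^ n ≤ I) (M : Type*) [AddCommGroup M] [Module A M] :
    IsDefining I M := IsDefining.of_forall (maximal_of_pow_le h) M

/-- The Hilbert–Samuel function of the ring. -/
theorem samuel_self (I : Ideal A) (t : ℕ) : samuel I A t = len A (A ⧸ I ^ t) := by
  rw [samuel, len, len, (Submodule.quotEquivOfEq (I ^ t • ⊤ : Submodule A A) (I ^ t)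
    (by rw [smul_eq_mul, Ideal.mul_top])).length_eq]

variable [IsNoetherianRing A] {I : Ideal A}
variable {M : Type u} [AddCommGroup M] [Module A M] [Module.Finite A M]

theorem exists_polynomial_le (hdef : IsDefining I M) {d : ℕ} (hd : Module.supportDim A M ≤ d) :
    ∃ P : ℚ[X], P.natDegree ≤ d ∧ ∀ᶠ t : ℕ in atTop, (samuel I M t : ℚ) = P.eval (t : ℚ) := by
  obtain ⟨P, hP⟩ := exists_polynomial I M hdef.isFiniteLength
  exact ⟨P, natDegree_le_supportDim d M hdef hd P hP, hP⟩

theorem tendsto_samuel_of_eval {P : ℚ[X]} {d : ℕ} (hPd : P.natDegree ≤ d)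
    (hP : ∀ᶠ t : ℕ in atTop, (samuel I M t : ℚ) = P.eval (t : ℚ)) :
    Tendsto (fun t : ℕ => (samuel I M t : ℝ) / (t : ℝ) ^ d) atTop (𝓝 (P.coeff d : ℝ)) := by
  refine (tendsto_eval_div_pow P hPd).congr' ?_
  filter_upwards [hP] with t ht
  rw [← ht, Rat.cast_intCast]

theorem tendsto_samuel_zero (hdef : IsDefining I M) {d : ℕ} (hd : Module.supportDim A M < d) :
    Tendsto (fun t : ℕ => (samuel I M t : ℝ) / (t : ℝ) ^ d) atTop (𝓝 0) := by
  obtain ⟨P, hPd, hP⟩ := exists_polynomial_le hdef hd.le
  rcases subsingleton_or_nontrivial M with hM | hM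
  · refine tendsto_const_nhds.congr fun t => ?_
    simp [samuel, len, Module.length_eq_zero]
  · cases d with
    | zero =>
      exact absurd hd (not_lt.mpr (by
        obtain ⟨e, he⟩ := WithBot.ne_bot_iff_exists.mp
          ((Module.supportDim_ne_bot_iff_nontrivial A M).mpr hM)
        rw [← he]
        exact_mod_cast bot_le))
    | succ d =>
      have hd' : Module.supportDim A M ≤ (d : ℕ) := by
        obtain ⟨e, he⟩ := WithBot.ne_bot_iff_exists.mp
          ((Module.supportDim_ne_bot_iff_nontrivial A M).mpr hM)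
        rw [← he] at hd ⊢
        have h1 : e < ((d + 1 : ℕ) : ℕ∞) := WithBot.coe_lt_coe.mp hd
        lift e to ℕ using ne_top_of_lt h1
        have h2 : e < d + 1 := Nat.cast_lt.mp h1
        exact WithBot.coe_le_coe.mpr (Nat.cast_le.mpr (Nat.lt_succ_iff.mp h2))
      have h0 : P.coeff (d + 1) = 0 :=
        coeff_eq_zero_of_natDegree_lt (Nat.lt_succ_of_le (natDegree_le_supportDim d M hdef hd' P hP))
      simpa [h0] using tendsto_samuel_of_eval hPd hP

/-- Additivity of multiplicities. -/
theorem tendsto_samuel_add {M' M'' : Type u} [AddCommGroup M'] [Module A M'] [Module.Finite A M']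
    [AddCommGroup M''] [Module A M''] (hdef : IsDefining I M)
    (f : M' →ₗ[A] M) (g : M →ₗ[A] M'') (hf : Function.Injective f) (hg : Function.Surjective g)
    (hfg : LinearMap.range f = LinearMap.ker g) {d : ℕ} {e' e'' : ℝ}
    (h' : Tendsto (fun t : ℕ => (samuel I M' t : ℝ) / (t : ℝ) ^ d) atTop (𝓝 e'))
    (h'' : Tendsto (fun t : ℕ => (samuel I M'' t : ℝ) / (t : ℝ) ^ d) atTop (𝓝 e'')) :
    Tendsto (fun t : ℕ => (samuel I M t : ℝ) / (t : ℝ) ^ d) atTop (𝓝 (e' + e'')) := by
  have hfl' := (hdef.mono (Module.support_subset_of_injective f hf) : IsDefining I M').isFiniteLength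
  obtain ⟨c, hc⟩ := exists_samuel_le_samuelSub hfl' f hf
  have hsub : Tendsto (fun t : ℕ => (samuelSub I f t : ℝ) / (t : ℝ) ^ d) atTop (𝓝 e') := by
    refine tendsto_of_tendsto_of_tendsto_of_le_of_le'
      (tendsto_shift (f := fun t => (samuel I M' t : ℝ)) c h') h' ?_ ?_
    · filter_upwards [eventually_ge_atTop c] with t ht
      exact div_le_div_of_nonneg_right (by exact_mod_cast hc t ht) (by positivity)
    · refine Eventually.of_forall fun t => ?_
      exact div_le_div_of_nonneg_right (by exact_mod_cast samuelSub_le hfl' f t) (by positivity)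
  refine (hsub.add h'').congr fun t => ?_
  rw [samuel_eq_add hdef.isFiniteLength f g hg hfg t]
  push_cast
  rw [add_div]

omit [IsNoetherianRing A] [Module.Finite A M] in
/-- Rewriting to the literal shape used in the statements. -/
theorem tendsto_factorial_mul_iff {d : ℕ} {e : ℝ} :
    Tendsto (fun t : ℕ => (d.factorial : ℝ) *
      ((Module.length A (M ⧸ (I ^ t • (⊤ : Submodule A M)))).toNat : ℝ) / (t : ℝ) ^ d) atTop (𝓝 e) ↔
    Tendsto (fun t : ℕ => (samuel I M t : ℝ) / (t : ℝ) ^ d) atTop (𝓝 (e / d.factorial)) := by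
  have h0 : (d.factorial : ℝ) ≠ 0 := by positivity
  simp only [samuel, len, Int.cast_natCast, mul_div_assoc]
  constructor
  · intro h
    convert h.div_const (d.factorial : ℝ) using 2 with t
    field_simp
  · intro h
    convert h.const_mul (d.factorial : ℝ) using 2
    field_simp

end GrothLib.HilbSam
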