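import Groth.Agent.Lib.HilbSam.Poly
import Groth.Agent.Lib.FiniteLengthSupp
import Mathlib.RingTheory.Filtration
import Mathlib.RingTheory.Jacobson.Ideal

/-!
# The Hilbert–Samuel function of a finite module

`samuel I M t` is the length of `M / I ^ t M`; it is eventually polynomial when `M / I M` has
finite length.
-/

set_option autoImplicit false

noncomputable section

open Filter Polynomial

namespace GrothLib.HilbSam

universe u v

variable {A : Type u} [CommRing A]

/-- The length of `M / I ^ t M`, as an integer. -/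
def samuel (I : Ideal A) (M : Type v) [AddCommGroup M] [Module A M] (t : ℕ) : ℤ :=
  len A (M ⧸ (I ^ t • ⊤ : Submodule A M))

variable (I : Ideal A) (M : Type v) [AddCommGroup M] [Module A M]

/-- The submodule `I ^ (i+1) M` of `I ^ i M`. -/
abbrev grSub (i : ℕ) : Submodule A ↥(I ^ i • ⊤ : Submodule A M) :=
  (I ^ (i + 1) • ⊤ : Submodule A M).comap (I ^ i • ⊤ : Submodule A M).subtype

/-- The graded pieces `I ^ i M / I ^ (i+1) M`. -/
abbrev gr (i : ℕ) : Type v := ↥(I ^ i • ⊤ : Submodule A M) ⧸ grSub I M i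

variable {I M}

theorem smul_mem_pow_succ {x : A} (hx : x ∈ I) {i : ℕ} {v : M}
    (hv : v ∈ (I ^ i • ⊤ : Submodule A M)) : x • v ∈ (I ^ (i + 1) • ⊤ : Submodule A M) := by
  rw [pow_succ', mul_smul]
  exact Submodule.smul_mem_smul hx hv

/-- Multiplication by `x ∈ I` as a map of graded pieces. -/
def grMul {x : A} (hx : x ∈ I) (i : ℕ) : gr I M i →ₗ[A] gr I M (i + 1) :=
  (grSub I M i).mapQ (grSub I M (i + 1))
    ((LinearMap.lsmul A M x).restrict fun _ hv => smul_mem_pow_succ hx hv)
    (fun _ hv => smul_mem_pow_succ hx hv)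

theorem grMul_mk {x : A} (hx : x ∈ I) (i : ℕ) (v : ↥(I ^ i • ⊤ : Submodule A M)) :
    grMul hx i ((grSub I M i).mkQ v) = (grSub I M (i + 1)).mkQ ⟨x • (v : M), smul_mem_pow_succ hx v.2⟩ :=
  rfl

variable {n : ℕ} (x : Fin n → A) (hx : ∀ j, x j ∈ I)

theorem grMul_comm (j l : Fin n) (i : ℕ) (v : gr I M i) :
    grMul (hx j) (i + 1) (grMul (hx l) i v) = grMul (hx l) (i + 1) (grMul (hx j) i v) := by
  obtain ⟨v, rfl⟩ := (grSub I M i).mkQ_surjective v
  rw [grMul_mk, grMul_mk, grMul_mk, grMul_mk]
  exact congrArg _ (Subtype.ext (smul_comm _ _ _))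

variable (hspan : Ideal.span (Set.range x) = I)
include hspan hx

theorem evGen_gr [IsNoetherianRing A] [Module.Finite A M] :
    EvGen (fun i => gr I M i) fun j i => grMul (hx j) i := by
  intro W hW
  let F : I.Filtration M :=
    { N := fun i => ((W i).comap (grSub I M i).mkQ).map (I ^ i • ⊤ : Submodule A M).subtype
      mono := fun i => by
        rintro _ ⟨v, _, rfl⟩
        refine ⟨⟨v, Submodule.pow_smul_top_le I M (Nat.le_succ i) v.2⟩, ?_, rfl⟩
        show (grSub I M i).mkQ _ ∈ W i
        rw [Submodule.mkQ_apply, (Submodule.Quotient.mk_eq_zero (grSub I M i)).mpr]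
        · exact zero_mem _
        · exact v.2
      smul_le := fun i => by
        refine Submodule.smul_le.mpr fun r hr v hv => ?_
        rw [← hspan] at hr
        induction hr using Submodule.span_induction with
        | mem r hr =>
          obtain ⟨j, rfl⟩ := hr
          obtain ⟨v, hv, rfl⟩ := hv
          refine ⟨⟨x j • (v : M), smul_mem_pow_succ (hx j) v.2⟩, ?_, rfl⟩
          exact hW j i ⟨_, hv, grMul_mk (hx j) i v⟩
        | zero => rw [zero_smul]; exact zero_mem _
        | add r s _ _ h1 h2 => rw [add_smul]; exact add_mem h1 h2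
        | smul a r _ h1 => rw [smul_assoc]; exact Submodule.smul_mem _ a h1 }
  have hF : F.Stable := (I.stableFiltration_stable ⊤).of_le (F' := F) fun i => by
    rintro _ ⟨v, _, rfl⟩
    exact v.2
  obtain ⟨N, hN⟩ := hF
  refine ⟨N, fun i hi w hw => ?_⟩
  obtain ⟨v, rfl⟩ := (grSub I M (i + 1)).mkQ_surjective w
  have h1 : (v : M) ∈ I • F.N i := by
    rw [hN i hi]
    exact ⟨v, hw, rfl⟩
  let G : Submodule A M := ((⨆ j, (W i).map (grMul (hx j) i)).comap (grSub I M (i + 1)).mkQ).map
    (I ^ (i + 1) • ⊤ : Submodule A M).subtype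
  have h2 : I • F.N i ≤ G := by
    refine Submodule.smul_le.mpr fun r hr v hv => ?_
    rw [← hspan] at hr
    induction hr using Submodule.span_induction with
    | mem r hr =>
      obtain ⟨j, rfl⟩ := hr
      obtain ⟨v, hv, rfl⟩ := hv
      refine ⟨⟨x j • (v : M), smul_mem_pow_succ (hx j) v.2⟩, ?_, rfl⟩
      exact Submodule.mem_iSup_of_mem j ⟨_, hv, grMul_mk (hx j) i v⟩
    | zero => rw [zero_smul]; exact zero_mem _
    | add r s _ _ h1 h2 => rw [add_smul]; exact add_mem h1 h2
    | smul a r _ h1 => rw [smul_assoc]; exact Submodule.smul_mem _ a h1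
  obtain ⟨z, hz, e⟩ := h2 h1
  exact (Subtype.ext e : z = v) ▸ hz

theorem isFiniteLength_gr (h : IsFiniteLength A (M ⧸ (I • ⊤ : Submodule A M))) :
    ∀ i, IsFiniteLength A (gr I M i) := by
  obtain ⟨_, _⟩ := isFiniteLength_iff_isNoetherian_isArtinian.mp h
  intro i
  induction i with
  | zero =>
    have hle : ((I • ⊤ : Submodule A M)) ≤ LinearMap.ker
        ((grSub I M 0).mkQ ∘ₗ (LinearMap.id : M →ₗ[A] M).codRestrict (I ^ 0 • ⊤ : Submodule A M)
          (fun v => by simp)) := by
      intro v hv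
      rw [LinearMap.mem_ker, LinearMap.comp_apply, Submodule.mkQ_apply,
        Submodule.Quotient.mk_eq_zero]
      show v ∈ (I ^ (0 + 1) • ⊤ : Submodule A M)
      rwa [zero_add, pow_one]
    refine h.of_surjective (f := (I • ⊤ : Submodule A M).liftQ _ hle) ?_
    intro w
    obtain ⟨v, rfl⟩ := (grSub I M 0).mkQ_surjective w
    exact ⟨Submodule.Quotient.mk (v : M), rfl⟩
  | succ i ih =>
    obtain ⟨_, _⟩ := isFiniteLength_iff_isNoetherian_isArtinian.mp ih
    let φ : (Fin n → gr I M i) →ₗ[A] gr I M (i + 1) :=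
      ∑ j, (grMul (hx j) i).comp (LinearMap.proj j)
    have hφ : Function.Surjective φ := by
      rw [← LinearMap.range_eq_top, eq_top_iff]
      rintro w -
      obtain ⟨v, rfl⟩ := (grSub I M (i + 1)).mkQ_surjective w
      have hle : (I ^ (i + 1) • ⊤ : Submodule A M) ≤ ((LinearMap.range φ).comap
          (grSub I M (i + 1)).mkQ).map (I ^ (i + 1) • ⊤ : Submodule A M).subtype := by
        refine le_trans (le_of_eq ((congrArg (· • (⊤ : Submodule A M)) (pow_succ' I i)).trans
          (mul_smul I (I ^ i) ⊤))) ?_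
        refine Submodule.smul_le.mpr fun r hr v hv => ?_
        rw [← hspan] at hr
        induction hr using Submodule.span_induction with
        | mem r hr =>
          obtain ⟨j, rfl⟩ := hr
          refine ⟨⟨x j • v, smul_mem_pow_succ (hx j) hv⟩, ⟨Pi.single j ((grSub I M i).mkQ ⟨v, hv⟩), ?_⟩, rfl⟩
          simp only [φ, LinearMap.sum_apply, LinearMap.comp_apply, LinearMap.proj_apply]
          rw [Finset.sum_eq_single j, Pi.single_eq_same, grMul_mk]
          · intro k _ hk
            rw [Pi.single_eq_of_ne hk, map_zero]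
          · intro hk
            exact absurd (Finset.mem_univ j) hk
        | zero => rw [zero_smul]; exact zero_mem _
        | add r s _ _ h1 h2 => rw [add_smul]; exact add_mem h1 h2
        | smul a r _ h1 => rw [smul_assoc]; exact Submodule.smul_mem _ a h1
      obtain ⟨z, hz, e⟩ := hle v.2
      exact (Subtype.ext e : z = v) ▸ hz
    exact (isFiniteLength_iff_isNoetherian_isArtinian.mpr ⟨inferInstance, inferInstance⟩ :
      IsFiniteLength A (Fin n → gr I M i)).of_surjective hφ

omit hspan hx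

/-- The exact sequence linking consecutive quotients. -/
theorem length_quotient_succ (t : ℕ) :
    Module.length A (M ⧸ (I ^ (t + 1) • ⊤ : Submodule A M)) =
      Module.length A (gr I M t) + Module.length A (M ⧸ (I ^ t • ⊤ : Submodule A M)) := by
  have hle : (I ^ (t + 1) • ⊤ : Submodule A M) ≤ I ^ t • ⊤ :=
    Submodule.pow_smul_top_le I M (Nat.le_succ t)
  refine Module.length_eq_add_of_exact
    ((grSub I M t).mapQ (I ^ (t + 1) • ⊤) (I ^ t • ⊤ : Submodule A M).subtype le_rfl)
    (Submodule.mapQ _ _ LinearMap.id hle) ?_ ?_ ?_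
  · rw [← LinearMap.ker_eq_bot, Submodule.ker_mapQ]
    rw [eq_bot_iff, Submodule.map_le_iff_le_comap]
    intro v hv
    rw [Submodule.mem_comap, Submodule.mem_bot, Submodule.mkQ_apply, Submodule.Quotient.mk_eq_zero]
    exact hv
  · intro w
    obtain ⟨v, rfl⟩ := (I ^ t • ⊤ : Submodule A M).mkQ_surjective w
    exact ⟨Submodule.Quotient.mk v, rfl⟩
  · intro w
    obtain ⟨v, rfl⟩ := (I ^ (t + 1) • ⊤ : Submodule A M).mkQ_surjective w
    rw [Submodule.mkQ_apply, Submodule.mapQ_apply, LinearMap.id_apply, Submodule.Quotient.mk_eq_zero]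
    constructor
    · exact fun hv => ⟨Submodule.Quotient.mk ⟨v, hv⟩, rfl⟩
    · rintro ⟨z, hz⟩
      obtain ⟨z, rfl⟩ := (grSub I M t).mkQ_surjective z
      rw [Submodule.mkQ_apply, Submodule.mapQ_apply, Submodule.Quotient.eq] at hz
      have := (I ^ t • ⊤ : Submodule A M).sub_mem z.2 (hle hz)
      simpa using this

include hspan hx in
theorem isFiniteLength_quotient_of_span (h : IsFiniteLength A (M ⧸ (I • ⊤ : Submodule A M)))
    (t : ℕ) : Module.length A (M ⧸ (I ^ t • ⊤ : Submodule A M)) ≠ ⊤ := by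
  induction t with
  | zero =>
    have : Subsingleton (M ⧸ (I ^ 0 • ⊤ : Submodule A M)) := by
      rw [Submodule.Quotient.subsingleton_iff, pow_zero, Ideal.one_eq_top, Submodule.top_smul]
    simp [Module.length_eq_zero]
  | succ t ih =>
    rw [length_quotient_succ]
    exact WithTop.add_ne_top.mpr
      ⟨Module.length_ne_top_iff.mpr (isFiniteLength_gr x hx hspan h t), ih⟩

omit x hx

theorem exists_finset_gen [IsNoetherianRing A] (I : Ideal A) :
    ∃ (n : ℕ) (x : Fin n → A), Ideal.span (Set.range x) = I :=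
  Submodule.fg_iff_exists_fin_generating_family.mp (IsNoetherian.noetherian I)

theorem isFiniteLength_quotient [IsNoetherianRing A]
    (h : IsFiniteLength A (M ⧸ (I • ⊤ : Submodule A M))) (t : ℕ) :
    Module.length A (M ⧸ (I ^ t • ⊤ : Submodule A M)) ≠ ⊤ := by
  obtain ⟨n, x, hx⟩ := exists_finset_gen I
  exact isFiniteLength_quotient_of_span x (fun j => hx ▸ Ideal.subset_span ⟨j, rfl⟩) hx h t

/-- The Hilbert–Samuel function is eventually a polynomial of degree at most the number of
generators. -/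
theorem exists_polynomial_le_span [IsNoetherianRing A] [Module.Finite A M]
    {n : ℕ} {x : Fin n → A} (hspan : Ideal.span (Set.range x) = I)
    (h : IsFiniteLength A (M ⧸ (I • ⊤ : Submodule A M))) :
    ∃ P : ℚ[X], P.natDegree ≤ n ∧ ∀ᶠ t : ℕ in atTop, (samuel I M t : ℚ) = P.eval (t : ℚ) := by
  have hx : ∀ j, x j ∈ I := fun j => hspan ▸ Ideal.subset_span ⟨j, rfl⟩
  have hV := isBinomForm_len n (fun i => gr I M i) (fun j i => grMul (hx j) i)
    (fun j l i v => grMul_comm x hx j l i v)
    (fun i => Module.length_ne_top_iff.mpr (isFiniteLength_gr x hx hspan h i))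
    (evGen_gr x hx hspan)
  have hS : IsBinomForm (n + 1) (samuel I M) := by
    refine hV.sum_step (N := 0) fun t _ => ?_
    simp only [samuel, len]
    rw [length_quotient_succ, ENat.toNat_add
      (Module.length_ne_top_iff.mpr (isFiniteLength_gr x hx hspan h t))
      (isFiniteLength_quotient h t)]
    push_cast
    ring
  obtain ⟨P, hP, N, hN⟩ := hS.exists_polynomial
  exact ⟨P, hP, eventually_atTop.mpr ⟨N, hN⟩⟩

variable (I M)

theorem exists_polynomial [IsNoetherianRing A] [Module.Finite A M]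
    (h : IsFiniteLength A (M ⧸ (I • ⊤ : Submodule A M))) :
    ∃ P : ℚ[X], ∀ᶠ t : ℕ in atTop, (samuel I M t : ℚ) = P.eval (t : ℚ) := by
  obtain ⟨n, x, hx⟩ := exists_finset_gen I
  obtain ⟨P, -, hP⟩ := exists_polynomial_le_span hx h
  exact ⟨P, hP⟩

theorem samuel_nonneg (t : ℕ) : 0 ≤ samuel I M t := Int.natCast_nonneg _

end GrothLib.HilbSam
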