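import Groth.Agent.Lib.HilbSam.Filtration
import Mathlib.RingTheory.Nakayama
import Mathlib.RingTheory.KrullDimension.Module

/-!
# Exact sequences and Hilbert–Samuel functions (via Artin–Rees)
-/

set_option autoImplicit false

noncomputable section

open Filter Polynomial Topology

namespace GrothLib.HilbSam

universe u v

variable {A : Type u} [CommRing A] (I : Ideal A)

/-- Every prime of the support containing `I` is maximal. -/
def IsDefining (M : Type v) [AddCommGroup M] [Module A M] : Prop :=
  ∀ p ∈ Module.support A M, I ≤ p.asIdeal → p.asIdeal.IsMaximal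

variable {I}

theorem IsDefining.mono {M : Type v} [AddCommGroup M] [Module A M] {N : Type*} [AddCommGroup N]
    [Module A N] (h : IsDefining I M) (hsub : Module.support A N ⊆ Module.support A M) :
    IsDefining I N := fun p hp => h p (hsub hp)

theorem IsDefining.of_forall (h : ∀ p : PrimeSpectrum A, I ≤ p.asIdeal → p.asIdeal.IsMaximal)
    (M : Type v) [AddCommGroup M] [Module A M] : IsDefining I M := fun p _ => h p

theorem IsDefining.isFiniteLength [IsNoetherianRing A] {M : Type v} [AddCommGroup M] [Module A M]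
    [Module.Finite A M] (h : IsDefining I M) : IsFiniteLength A (M ⧸ (I • ⊤ : Submodule A M)) := by
  refine Module.length_ne_top_iff.mp (GrothLib.FiniteLengthSupp.length_lt_top ?_).ne
  rw [Module.supportDim, Order.krullDim_nonpos_iff_forall_isMax]
  intro p q hpq
  have h1 : p.1 ∈ Module.support A M :=
    Module.support_subset_of_surjective _ (I • ⊤ : Submodule A M).mkQ_surjective p.2
  have h2 : I ≤ p.1.asIdeal := by
    refine le_trans (fun a ha => Module.mem_annihilator.mpr fun w => ?_)
      (Module.annihilator_le_of_mem_support p.2)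
    obtain ⟨v, rfl⟩ := (I • ⊤ : Submodule A M).mkQ_surjective w
    rw [← map_smul, Submodule.mkQ_apply, Submodule.Quotient.mk_eq_zero]
    exact Submodule.smul_mem_smul ha trivial
  exact le_of_eq (Subtype.ext (PrimeSpectrum.ext ((h _ h1 h2).eq_of_le q.1.2.1 hpq).symm))

section Exact

variable [IsNoetherianRing A]
variable {M' : Type v} [AddCommGroup M'] [Module A M']
variable {M : Type v} [AddCommGroup M] [Module A M] [Module.Finite A M]
variable {M'' : Type v} [AddCommGroup M''] [Module A M'']

omit [IsNoetherianRing A] [Module.Finite A M] in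
theorem map_pow_smul_top (g : M →ₗ[A] M'') (hg : Function.Surjective g) (t : ℕ) :
    (I ^ t • ⊤ : Submodule A M).map g = I ^ t • ⊤ := by
  rw [Submodule.map_smul'', Submodule.map_top, LinearMap.range_eq_top.mpr hg]

omit [IsNoetherianRing A] [Module.Finite A M] in
theorem map_pow_smul_top_le (f : M' →ₗ[A] M) (t : ℕ) :
    (I ^ t • ⊤ : Submodule A M').map f ≤ I ^ t • ⊤ := by
  rw [Submodule.map_smul'']
  exact smul_mono_right _ le_top

omit [Module.Finite A M] in
theorem samuel_le_of_surjective (hfl : IsFiniteLength A (M ⧸ (I • ⊤ : Submodule A M)))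
    (g : M →ₗ[A] M'') (hg : Function.Surjective g) (t : ℕ) : samuel I M'' t ≤ samuel I M t := by
  have h : (I ^ t • ⊤ : Submodule A M) ≤ (I ^ t • ⊤ : Submodule A M'').comap g :=
    Submodule.map_le_iff_le_comap.mp (map_pow_smul_top g hg t).le
  have h1 := Module.length_le_of_surjective ((I ^ t • ⊤ : Submodule A M).mapQ _ g h) (by
    intro w
    obtain ⟨v, rfl⟩ := (I ^ t • ⊤ : Submodule A M'').mkQ_surjective w
    obtain ⟨u, rfl⟩ := hg v
    exact ⟨Submodule.Quotient.mk u, rfl⟩)
  exact Int.ofNat_le.mpr (ENat.toNat_le_toNat h1 (isFiniteLength_quotient hfl t))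

/-- The length of `M' / f⁻¹ (I ^ t M)`. -/
def samuelSub (I : Ideal A) (f : M' →ₗ[A] M) (t : ℕ) : ℤ :=
  len A (M' ⧸ (I ^ t • ⊤ : Submodule A M).comap f)

omit [Module.Finite A M] in
theorem samuel_eq_add (hfl : IsFiniteLength A (M ⧸ (I • ⊤ : Submodule A M)))
    (f : M' →ₗ[A] M) (g : M →ₗ[A] M'') (hg : Function.Surjective g)
    (hfg : LinearMap.range f = LinearMap.ker g) (t : ℕ) :
    samuel I M t = samuelSub I f t + samuel I M'' t := by
  have h : (I ^ t • ⊤ : Submodule A M) ≤ (I ^ t • ⊤ : Submodule A M'').comap g :=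
    Submodule.map_le_iff_le_comap.mp (map_pow_smul_top g hg t).le
  refine len_exact (((I ^ t • ⊤ : Submodule A M).comap f).mapQ (I ^ t • ⊤) f le_rfl)
    ((I ^ t • ⊤ : Submodule A M).mapQ _ g h) ?_ ?_ ?_ (isFiniteLength_quotient hfl t)
  · rw [← LinearMap.ker_eq_bot, Submodule.ker_mapQ]
    rw [eq_bot_iff, Submodule.map_le_iff_le_comap]
    intro v hv
    rw [Submodule.mem_comap, Submodule.mem_bot, Submodule.mkQ_apply, Submodule.Quotient.mk_eq_zero]
    exact hv
  · intro w
    obtain ⟨v, rfl⟩ := (I ^ t • ⊤ : Submodule A M'').mkQ_surjective w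
    obtain ⟨u, rfl⟩ := hg v
    exact ⟨Submodule.Quotient.mk u, rfl⟩
  · intro w
    obtain ⟨v, rfl⟩ := (I ^ t • ⊤ : Submodule A M).mkQ_surjective w
    rw [Submodule.mkQ_apply, Submodule.mapQ_apply, Submodule.Quotient.mk_eq_zero]
    constructor
    · intro hv
      rw [← map_pow_smul_top g hg t] at hv
      obtain ⟨u, hu, e⟩ := hv
      have : v - u ∈ LinearMap.range f := by rw [hfg, LinearMap.mem_ker, map_sub, e, sub_self]
      obtain ⟨z, hz⟩ := this
      refine ⟨Submodule.Quotient.mk z, ?_⟩
      rw [Submodule.mapQ_apply, Submodule.Quotient.eq, hz, sub_right_comm, sub_self, zero_sub]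
      exact neg_mem hu
    · rintro ⟨z, hz⟩
      obtain ⟨z, rfl⟩ := ((I ^ t • ⊤ : Submodule A M).comap f).mkQ_surjective z
      rw [Submodule.mkQ_apply, Submodule.mapQ_apply, Submodule.Quotient.eq] at hz
      have h0 : g (f z) = 0 := LinearMap.mem_ker.mp (hfg ▸ LinearMap.mem_range_self f z)
      have h2 : g (f z - v) ∈ (I ^ t • ⊤ : Submodule A M'') :=
        map_pow_smul_top g hg t ▸ Submodule.mem_map_of_mem hz
      rwa [map_sub, h0, zero_sub, neg_mem_iff] at h2

variable [Module.Finite A M']

omit [Module.Finite A M] [Module.Finite A M'] in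
theorem samuelSub_le (hfl : IsFiniteLength A (M' ⧸ (I • ⊤ : Submodule A M')))
    (f : M' →ₗ[A] M) (t : ℕ) : samuelSub I f t ≤ samuel I M' t := by
  have h1 := Module.length_le_of_surjective
    (Submodule.factor (Submodule.map_le_iff_le_comap.mp (map_pow_smul_top_le (I := I) f t)))
    (Submodule.factor_surjective _)
  exact Int.ofNat_le.mpr (ENat.toNat_le_toNat h1 (isFiniteLength_quotient hfl t))

/-- Artin–Rees. -/
theorem exists_samuel_le_samuelSub (hfl : IsFiniteLength A (M' ⧸ (I • ⊤ : Submodule A M')))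
    (f : M' →ₗ[A] M) (hf : Function.Injective f) :
    ∃ c, ∀ t ≥ c, samuel I M' (t - c) ≤ samuelSub I f t := by
  obtain ⟨c, hc⟩ := I.exists_pow_inf_eq_pow_smul (LinearMap.range f)
  refine ⟨c, fun t ht => ?_⟩
  have hle : (I ^ t • ⊤ : Submodule A M).comap f ≤ I ^ (t - c) • ⊤ := by
    intro v hv
    have h1 : f v ∈ I ^ t • ⊤ ⊓ LinearMap.range f := ⟨hv, LinearMap.mem_range_self f v⟩
    rw [hc t ht] at h1
    have h2 : I ^ (t - c) • (I ^ c • ⊤ ⊓ LinearMap.range f) ≤
        (I ^ (t - c) • ⊤ : Submodule A M').map f := by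
      rw [Submodule.map_smul'', Submodule.map_top]
      exact smul_mono_right _ inf_le_right
    obtain ⟨u, hu, e⟩ := h2 h1
    exact (hf e) ▸ hu
  have h1 := Module.length_le_of_surjective (Submodule.factor hle) (Submodule.factor_surjective hle)
  refine Int.ofNat_le.mpr (ENat.toNat_le_toNat h1 ?_)
  exact ne_top_of_le_ne_top (isFiniteLength_quotient hfl t) (Module.length_le_of_surjective
    (Submodule.factor (Submodule.map_le_iff_le_comap.mp (map_pow_smul_top_le (I := I) f t)))
    (Submodule.factor_surjective _))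

end Exact

theorem samuel_pos {M : Type v} [AddCommGroup M] [Module A M] [Module.Finite A M] [Nontrivial M]
    [IsNoetherianRing A] (hI : I ≤ Ring.jacobson A)
    (hfl : IsFiniteLength A (M ⧸ (I • ⊤ : Submodule A M))) {t : ℕ} (ht : t ≠ 0) :
    0 < samuel I M t := by
  have hne : (I ^ t • ⊤ : Submodule A M) ≠ ⊤ := fun e => by
    have := Submodule.eq_bot_of_le_smul_of_le_jacobson_bot (I ^ t) (⊤ : Submodule A M)
      Module.Finite.fg_top e.ge ((Ideal.pow_le_self ht).trans (hI.trans (by
        rw [Ring.jacobson_eq_sInf_isMaximal, Ideal.jacobson]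
        exact le_sInf fun J hJ => sInf_le hJ.2)))
    exact bot_ne_top this.symm
  have : Nontrivial (M ⧸ (I ^ t • ⊤ : Submodule A M)) := Submodule.Quotient.nontrivial_iff.mpr hne
  refine Int.natCast_pos.mpr (Nat.pos_of_ne_zero fun e => ?_)
  rcases ENat.toNat_eq_zero.mp e with h | h
  · exact (Module.length_pos (R := A) (M := M ⧸ (I ^ t • ⊤ : Submodule A M))).ne' h
  · exact isFiniteLength_quotient hfl t h

end GrothLib.HilbSam
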