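import Groth.Agent.Lib.HilbSam.Additive
import Mathlib.RingTheory.Ideal.AssociatedPrime.Localization
import Mathlib.RingTheory.Ideal.AssociatedPrime.Finiteness
import Mathlib.RingTheory.Ideal.MinimalPrime.Noetherian
import Mathlib.RingTheory.KrullDimension.Regular

/-!
# The degree of the Hilbert–Samuel polynomial is the dimension of the support
-/

set_option autoImplicit false

noncomputable section

open Filter Polynomial Topology Pointwise

namespace GrothLib.HilbSam

set_option maxHeartbeats 400000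

universe u

variable {A : Type u} [CommRing A] [IsNoetherianRing A] {I : Ideal A}
variable {M : Type u} [AddCommGroup M] [Module A M] [Module.Finite A M]

theorem natDegree_le_succ {f : ℕ → ℤ} {P Q : ℚ[X]} {d : ℕ}
    (hP : ∀ᶠ t : ℕ in atTop, (f t : ℚ) = P.eval (t : ℚ)) (hf : ∀ t, 0 ≤ f t) (hQ : Q.natDegree ≤ d)
    (hstep : ∀ᶠ t : ℕ in atTop, ((f (t + 1) : ℚ) - f t) ≤ Q.eval ((t + 1 : ℕ) : ℚ)) :
    P.natDegree ≤ d + 1 := by
  obtain ⟨C, hC⟩ := abs_eval_le Q hQ
  obtain ⟨N, hN⟩ := eventually_atTop.mp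
    (hstep.and ((tendsto_add_atTop_nat 1).eventually hC))
  have hC0 : 0 ≤ C := by
    have := (abs_nonneg _).trans (hN N le_rfl).2
    by_contra h
    push Not at h
    have : C * (((N + 1 : ℕ) : ℝ)) ^ d < 0 := mul_neg_of_neg_of_pos h (by positivity)
    linarith
  have hbound : ∀ t ≥ N, (f t : ℝ) ≤ f N + C * (t : ℝ) ^ (d + 1) := by
    intro t ht
    induction t, ht using Nat.le_induction with
    | base => nlinarith [show (0 : ℝ) ≤ C * (N : ℝ) ^ (d + 1) by positivity]
    | succ t ht ih =>
      have h1 : ((f (t + 1) : ℝ) - f t) ≤ C * ((t + 1 : ℕ) : ℝ) ^ d := by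
        refine le_trans ?_ ((le_abs_self _).trans (hN t ht).2)
        exact_mod_cast (hN t ht).1
      have h2 : (t : ℝ) ^ d * t ≤ ((t + 1 : ℕ) : ℝ) ^ d * t := by
        gcongr
        exact_mod_cast Nat.le_succ t
      have h3 : C * ((t : ℝ) ^ (d + 1)) + C * ((t + 1 : ℕ) : ℝ) ^ d ≤ C * ((t + 1 : ℕ) : ℝ) ^ (d + 1) := by
        rw [← mul_add]
        refine mul_le_mul_of_nonneg_left ?_ hC0
        rw [pow_succ, pow_succ ((t + 1 : ℕ) : ℝ)]
        push_cast at h2 ⊢
        nlinarith
      linarith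
  refine natDegree_le_of_bound P (d + 1) (|(f N : ℝ)| + C) ?_
  filter_upwards [hP, eventually_ge_atTop N, eventually_gt_atTop 0] with t ht htN ht0
  rw [← ht, Rat.cast_intCast, abs_of_nonneg (by exact_mod_cast hf t)]
  have h1 : (1 : ℝ) ≤ (t : ℝ) ^ (d + 1) := one_le_pow₀ (by exact_mod_cast ht0)
  have h2 := hbound t htN
  nlinarith [le_abs_self (f N : ℝ), abs_nonneg (f N : ℝ)]

theorem samuel_succ_le_add (hfl : IsFiniteLength A (M ⧸ (I • ⊤ : Submodule A M))) {x : A}
    (hx : x ∈ I) (t : ℕ) :
    samuel I M (t + 1) ≤ samuel I M t + samuel I (QuotSMulTop x M) (t + 1) := by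
  have hrange : LinearMap.range (LinearMap.lsmul A M x) =
      LinearMap.ker (x • (⊤ : Submodule A M)).mkQ := by
    rw [Submodule.ker_mkQ]
    ext v
    simp [Submodule.mem_smul_pointwise_iff_exists]
  have h := samuel_eq_add hfl (LinearMap.lsmul A M x) (x • (⊤ : Submodule A M)).mkQ
    (Submodule.mkQ_surjective _) hrange (t + 1)
  have hle : (I ^ t • ⊤ : Submodule A M) ≤ (I ^ (t + 1) • ⊤ : Submodule A M).comap
      (LinearMap.lsmul A M x) := fun v hv => smul_mem_pow_succ hx hv
  have h1 := Module.length_le_of_surjective (Submodule.factor hle) (Submodule.factor_surjective hle)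
  have h2 : samuelSub I (LinearMap.lsmul A M x) (t + 1) ≤ samuel I M t :=
    Int.ofNat_le.mpr (ENat.toNat_le_toNat h1 (isFiniteLength_quotient hfl t))
  change samuel I M (t + 1) = _ + samuel I (QuotSMulTop x M) (t + 1) at h
  omega

theorem natDegree_le_supportDim : ∀ (d : ℕ) (M : Type u) [AddCommGroup M] [Module A M]
    [Module.Finite A M] (_ : IsDefining I M) (_ : Module.supportDim A M ≤ (d : ℕ)) (P : ℚ[X]),
    (∀ᶠ t : ℕ in atTop, (samuel I M t : ℚ) = P.eval (t : ℚ)) → P.natDegree ≤ d := by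
  intro d
  induction d with
  | zero =>
    intro M _ _ _ hI hd P hP
    have hfin := (GrothLib.FiniteLengthSupp.length_lt_top (R := A) (M := M) hd).ne
    refine natDegree_le_of_bound P 0 ((len A M : ℤ) : ℝ) ?_
    filter_upwards [hP] with t ht
    have h := Int.ofNat_le.mpr (ENat.toNat_le_toNat (Module.length_le_of_surjective
      (I ^ t • ⊤ : Submodule A M).mkQ (Submodule.mkQ_surjective _)) hfin)
    rw [← ht, Rat.cast_intCast, pow_zero, mul_one, abs_of_nonneg (by exact_mod_cast samuel_nonneg I M t)]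
    exact Int.cast_le.mpr h
  | succ d ih =>
    intro M _ _ _ hI hd P hP
    let S : Set (Ideal A) := {p ∈ (Module.annihilator A M).minimalPrimes | ¬ p.IsMaximal}
    have hS : S.Finite := ((Module.annihilator A M).finite_minimalPrimes_of_isNoetherianRing).subset
      fun p hp => hp.1
    obtain ⟨x, hxI, hx⟩ : ∃ x ∈ I, ∀ p ∈ S, x ∉ p := by
      by_contra hc
      push Not at hc
      have hsub : (I : Set A) ⊆ ⋃ p ∈ (hS.toFinset : Set (Ideal A)), (p : Set A) := fun x hx => by
        obtain ⟨p, hp, hxp⟩ := hc x hx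
        exact Set.mem_biUnion (Finset.mem_coe.mpr (hS.mem_toFinset.mpr hp)) hxp
      obtain ⟨p, hp, hle⟩ := (Ideal.subset_union_prime (f := id) ⊥ ⊥
        fun p hp _ _ => (hS.mem_toFinset.mp hp).1.1.1).mp hsub
      have hp' := hS.mem_toFinset.mp hp
      exact hp'.2 (hI ⟨p, hp'.1.1.1⟩ (Module.mem_support_iff_of_finite.mpr hp'.1.1.2) hle)
    have hsub : Module.support A (QuotSMulTop x M) ⊆ Module.support A M :=
      Module.support_subset_of_surjective _ (Submodule.mkQ_surjective _)
    have hQd : Module.supportDim A (QuotSMulTop x M) ≤ (d : ℕ) := by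
      refine iSup_le fun p => ?_
      by_cases h0 : p.length = 0
      · rw [h0]
        exact_mod_cast Nat.zero_le d
      have hp := (Set.ext_iff.mp (Module.support_quotSMulTop (R := A) (M := M) x) p.head.1).mp p.head.2
      rw [Set.mem_inter_iff, PrimeSpectrum.mem_zeroLocus, Set.singleton_subset_iff] at hp
      obtain ⟨r, hr, hrle⟩ := Ideal.exists_minimalPrimes_le (Module.mem_support_iff_of_finite.mp hp.1)
      have hlt : r < p.head.1.asIdeal := by
        refine lt_of_le_of_ne hrle fun e => ?_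
        have hS' : r ∈ S := ⟨hr, fun hmax => ?_⟩
        · exact hx r hS' (le_of_eq e.symm hp.2)
        · have h1 : p.head < p.last := p.strictMono (Fin.mk_lt_mk.mpr (Nat.pos_of_ne_zero h0))
          exact h1.ne (Subtype.ext (PrimeSpectrum.ext (e.symm.trans (hmax.eq_of_le p.last.1.2.1 (hrle.trans h1.le)))))
      let q : LTSeries (Module.support A M) :=
        p.map (fun y => ⟨y.1, hsub y.2⟩) (fun _ _ h => h)
      have := le_trans (Order.LTSeries.length_le_krullDim
        (q.cons ⟨⟨r, hr.1.1⟩, Module.mem_support_iff_of_finite.mpr hr.1.2⟩ hlt)) hd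
      simp only [RelSeries.cons_length] at this
      have h' : p.length + 1 ≤ d + 1 := by exact_mod_cast this
      exact_mod_cast (Nat.le_of_succ_le_succ h')
    have hIQ : IsDefining I (QuotSMulTop x M) := hI.mono hsub
    obtain ⟨Q, hQ⟩ := exists_polynomial I (QuotSMulTop x M) hIQ.isFiniteLength
    have hQdeg := ih (QuotSMulTop x M) hIQ hQd Q hQ
    refine natDegree_le_succ hP (samuel_nonneg I M) hQdeg ?_
    filter_upwards [(tendsto_add_atTop_nat 1).eventually hQ] with t ht
    rw [← ht, sub_le_iff_le_add']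
    exact_mod_cast samuel_succ_le_add hI.isFiniteLength hxI t

theorem natDegree_mono_of_surjective {M'' : Type u} [AddCommGroup M''] [Module A M'']
    (hfl : IsFiniteLength A (M ⧸ (I • ⊤ : Submodule A M))) (g : M →ₗ[A] M'')
    (hg : Function.Surjective g) {P Q : ℚ[X]}
    (hP : ∀ᶠ t : ℕ in atTop, (samuel I M'' t : ℚ) = P.eval (t : ℚ))
    (hQ : ∀ᶠ t : ℕ in atTop, (samuel I M t : ℚ) = Q.eval (t : ℚ)) : P.natDegree ≤ Q.natDegree := by
  refine natDegree_le_of_le ?_
  filter_upwards [hP, hQ] with t h1 h2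
  rw [← h1, ← h2]
  exact ⟨by exact_mod_cast samuel_nonneg I M'' t,
    by exact_mod_cast samuel_le_of_surjective hfl g hg t⟩

theorem natDegree_mono_of_injective {M' : Type u} [AddCommGroup M'] [Module A M'] [Module.Finite A M']
    (hfl : IsFiniteLength A (M ⧸ (I • ⊤ : Submodule A M)))
    (hfl' : IsFiniteLength A (M' ⧸ (I • ⊤ : Submodule A M')))
    (f : M' →ₗ[A] M) (hf : Function.Injective f) {P Q : ℚ[X]}
    (hP : ∀ᶠ t : ℕ in atTop, (samuel I M' t : ℚ) = P.eval (t : ℚ))
    (hQ : ∀ᶠ t : ℕ in atTop, (samuel I M t : ℚ) = Q.eval (t : ℚ)) : P.natDegree ≤ Q.natDegree := by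
  obtain ⟨c, hc⟩ := exists_samuel_le_samuelSub hfl' f hf
  have h : (P.comp (X - C (c : ℚ))).natDegree = P.natDegree := by
    rw [natDegree_comp, natDegree_X_sub_C, mul_one]
  rw [← h]
  refine natDegree_le_of_le ?_
  filter_upwards [(tendsto_sub_atTop_nat c).eventually hP, hQ, eventually_ge_atTop c]
    with t h1 h2 ht
  have e : (P.comp (X - C (c : ℚ))).eval (t : ℚ) = (samuel I M' (t - c) : ℚ) := by
    rw [h1, eval_comp]
    simp [Nat.cast_sub ht]
  rw [e, ← h2]
  refine ⟨by exact_mod_cast samuel_nonneg I M' _, ?_⟩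
  have h3 := samuel_eq_add hfl f (LinearMap.range f).mkQ (Submodule.mkQ_surjective _)
    (Submodule.ker_mkQ _).symm t
  have h4 := samuel_nonneg I (M ⧸ LinearMap.range f) t
  exact_mod_cast (hc t ht).trans (by omega)

theorem natDegree_mono_of_subquotient {N Q : Type u} [AddCommGroup N] [Module A N] [Module.Finite A N]
    [AddCommGroup Q] [Module A Q] [Module.Finite A Q]
    (hdef : IsDefining I M) (f : N →ₗ[A] M) (hf : Function.Injective f)
    (g : N →ₗ[A] Q) (hg : Function.Surjective g) {P S : ℚ[X]}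
    (hP : ∀ᶠ t : ℕ in atTop, (samuel I M t : ℚ) = P.eval (t : ℚ))
    (hS : ∀ᶠ t : ℕ in atTop, (samuel I Q t : ℚ) = S.eval (t : ℚ)) : S.natDegree ≤ P.natDegree := by
  have hN : IsDefining I N := hdef.mono (Module.support_subset_of_injective f hf)
  obtain ⟨R, hR⟩ := exists_polynomial I N hN.isFiniteLength
  exact (natDegree_mono_of_surjective hN.isFiniteLength g hg hS hR).trans
    (natDegree_mono_of_injective hdef.isFiniteLength hN.isFiniteLength f hf hR hP)

theorem length_le_natDegree (hI : I ≤ Ring.jacobson A) : ∀ (m : ℕ)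
    (s : LTSeries (PrimeSpectrum A)), s.length = m → IsDefining I (A ⧸ s.head.asIdeal) →
    ∀ P : ℚ[X], (∀ᶠ t : ℕ in atTop, (samuel I (A ⧸ s.head.asIdeal) t : ℚ) = P.eval (t : ℚ)) →
    m ≤ P.natDegree := by
  intro m
  induction m with
  | zero => exact fun _ _ _ _ _ => Nat.zero_le _
  | succ m ih =>
    intro s hs hdef P hP
    have hne : s.length ≠ 0 := by omega
    let q := s.tail hne
    have hlt : s.head < q.head := by
      rw [RelSeries.head_tail]
      exact s.strictMono (Fin.mk_lt_mk.mpr (by simp [Fin.val_one', Nat.mod_eq_of_lt, hs]))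
    obtain ⟨x, hxq, hxp⟩ : ∃ x ∈ q.head.asIdeal, x ∉ s.head.asIdeal :=
      Set.exists_of_ssubset (show (s.head.asIdeal : Set A) ⊂ q.head.asIdeal from hlt)
    set f : (A ⧸ s.head.asIdeal) →ₗ[A] (A ⧸ s.head.asIdeal) := LinearMap.lsmul A _ x with hf
    have hinj : Function.Injective f := by
      rw [← LinearMap.ker_eq_bot, eq_bot_iff]
      intro v hv
      obtain ⟨a, rfl⟩ := Ideal.Quotient.mk_surjective v
      rw [LinearMap.mem_ker, hf, LinearMap.lsmul_apply] at hv
      change Ideal.Quotient.mk s.head.asIdeal (x * a) = 0 at hv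
      rw [Ideal.Quotient.eq_zero_iff_mem] at hv
      rw [Submodule.mem_bot, Ideal.Quotient.eq_zero_iff_mem]
      exact (s.head.2.mem_or_mem hv).resolve_left hxp
    have hle : LinearMap.range f ≤ Submodule.map
        (Submodule.mkQ s.head.asIdeal) q.head.asIdeal := by
      rintro _ ⟨v, rfl⟩
      obtain ⟨a, rfl⟩ := Ideal.Quotient.mk_surjective v
      exact ⟨x * a, Ideal.mul_mem_right a _ hxq, rfl⟩
    let π : ((A ⧸ s.head.asIdeal) ⧸ LinearMap.range f) →ₗ[A] (A ⧸ q.head.asIdeal) :=
      (LinearMap.range f).liftQ (Submodule.factor hlt.le) (hle.trans (by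
        rintro _ ⟨a, ha, rfl⟩
        rw [LinearMap.mem_ker]
        exact (Submodule.Quotient.mk_eq_zero _).mpr ha))
    have hπ : Function.Surjective π := fun w => by
      obtain ⟨a, rfl⟩ := Submodule.mkQ_surjective _ w
      exact ⟨Submodule.Quotient.mk (Submodule.Quotient.mk a), rfl⟩
    have hdefQ : IsDefining I ((A ⧸ s.head.asIdeal) ⧸ LinearMap.range f) :=
      hdef.mono (Module.support_subset_of_surjective _ (Submodule.mkQ_surjective _))
    have hdefq : IsDefining I (A ⧸ q.head.asIdeal) :=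
      hdefQ.mono (Module.support_subset_of_surjective π hπ)
    obtain ⟨R, hR⟩ := exists_polynomial I (A ⧸ q.head.asIdeal) hdefq.isFiniteLength
    have hmR := ih q (by simp [q, hs]) hdefq R hR
    obtain ⟨c, hc⟩ := exists_samuel_le_samuelSub hdef.isFiniteLength f hinj
    have hbd : ∀ᶠ t : ℕ in atTop, 0 ≤ R.eval (t : ℚ) ∧
        R.eval (t : ℚ) ≤ (P - P.comp (X - C (c : ℚ))).eval (t : ℚ) := by
      filter_upwards [hR, hP, (tendsto_sub_atTop_nat c).eventually hP, eventually_ge_atTop c]
        with t h1 h2 h3 ht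
      rw [← h1]
      refine ⟨by exact_mod_cast samuel_nonneg I _ t, ?_⟩
      have e : (P - P.comp (X - C (c : ℚ))).eval (t : ℚ) =
          (samuel I (A ⧸ s.head.asIdeal) t : ℚ) - (samuel I (A ⧸ s.head.asIdeal) (t - c) : ℚ) := by
        rw [h2, h3, eval_sub, eval_comp]
        simp [Nat.cast_sub ht]
      rw [e]
      have h4 := samuel_eq_add hdef.isFiniteLength f (LinearMap.range f).mkQ
        (Submodule.mkQ_surjective _) (Submodule.ker_mkQ _).symm t
      have h5 := samuel_le_of_surjective hdefQ.isFiniteLength π hπ t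
      have h6 := hc t ht
      have h7 : samuel I (A ⧸ q.head.asIdeal) t ≤
          samuel I (A ⧸ s.head.asIdeal) t - samuel I (A ⧸ s.head.asIdeal) (t - c) := by omega
      exact_mod_cast h7
    have h8 := (natDegree_le_of_le hbd).trans (natDegree_sub_comp_le P c)
    by_contra hlt'
    push Not at hlt'
    have hP0 : P.natDegree = 0 := by omega
    obtain ⟨a, ha⟩ : ∃ a, P = C a := ⟨_, eq_C_of_natDegree_eq_zero hP0⟩
    obtain ⟨t, ⟨h1, h1'⟩, h2, ht⟩ := (hbd.and (hR.and (eventually_gt_atTop 0))).exists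
    rw [ha] at h1'
    simp only [C_comp, sub_self, eval_zero] at h1'
    have : Nontrivial (A ⧸ q.head.asIdeal) := Ideal.Quotient.nontrivial_iff.mpr q.head.2.ne_top
    have h9 := samuel_pos hI hdefq.isFiniteLength ht.ne'
    rw [← h2] at h1'
    exact absurd (by exact_mod_cast h1' : samuel I (A ⧸ q.head.asIdeal) t ≤ 0) (not_le.mpr h9)

/-- **The dimension theorem**: the Hilbert–Samuel polynomial has degree `dim Supp M`. -/
theorem natDegree_eq_supportDim [Nontrivial M] (hI : I ≤ Ring.jacobson A) (hdef : IsDefining I M)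
    {P : ℚ[X]} (hP : ∀ᶠ t : ℕ in atTop, (samuel I M t : ℚ) = P.eval (t : ℚ)) :
    (P.natDegree : WithBot ℕ∞) = Module.supportDim A M := by
  have hlow : Module.supportDim A M ≤ (P.natDegree : ℕ) := by
    refine iSup_le fun s => ?_
    suffices h : s.length ≤ P.natDegree by exact_mod_cast h
    obtain ⟨r, hr, hrle⟩ := Ideal.exists_minimalPrimes_le (Module.mem_support_iff_of_finite.mp s.head.2)
    have hass : IsAssociatedPrime r M :=
      Module.associatedPrimes.minimalPrimes_annihilator_subset_associatedPrimes A M hr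
    obtain ⟨hrp, v, hv⟩ := isAssociatedPrime_iff.mp hass
    let ι : (A ⧸ r) →ₗ[A] M := Submodule.liftQ r (LinearMap.toSpanSingleton A M v)
      fun a ha => by
        rw [LinearMap.mem_ker, LinearMap.toSpanSingleton_apply]
        change a ∈ r at ha
        rw [hv, Submodule.mem_colon_singleton, Submodule.mem_bot] at ha
        exact ha
    have hι : Function.Injective ι := by
      rw [← LinearMap.ker_eq_bot, eq_bot_iff]
      intro w hw
      obtain ⟨a, rfl⟩ := Submodule.mkQ_surjective _ w
      rw [Submodule.mem_bot]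
      refine (Submodule.Quotient.mk_eq_zero _).mpr ?_
      change a ∈ r
      rw [hv, Submodule.mem_colon_singleton, Submodule.mem_bot]
      exact hw
    have hdefr : IsDefining I (A ⧸ r) :=
      hdef.mono (Module.support_subset_of_injective ι hι)
    have hrs : r ≤ s.head.1.asIdeal := hrle
    have hdefp : IsDefining I (A ⧸ s.head.1.asIdeal) :=
      hdefr.mono (Module.support_subset_of_surjective (Submodule.factor hrs)
        (Submodule.factor_surjective hrs))
    obtain ⟨S, hS⟩ := exists_polynomial I (A ⧸ s.head.1.asIdeal) hdefp.isFiniteLength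
    have h1 : S.natDegree ≤ P.natDegree :=
      natDegree_mono_of_subquotient (N := A ⧸ r) (Q := A ⧸ s.head.1.asIdeal) hdef ι hι
        (Submodule.factor hrs) (Submodule.factor_surjective hrs) hP hS
    let s' : LTSeries (PrimeSpectrum A) := s.map Subtype.val fun _ _ h => h
    have e : s'.head = s.head.1 := LTSeries.head_map _ _ _
    have h3 : s'.length ≤ S.natDegree := length_le_natDegree hI s'.length s' rfl
      (by rw [e]; exact hdefp) S (by rw [e]; exact hS)
    exact le_trans h3 h1
  obtain ⟨d, hd⟩ : ∃ d : ℕ, Module.supportDim A M = d := by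
    have hbot := Module.supportDim_ne_bot_iff_nontrivial A M |>.mpr inferInstance
    obtain ⟨e, he⟩ := WithBot.ne_bot_iff_exists.mp hbot
    rw [← he] at hlow
    have he' : e ≤ (P.natDegree : ℕ∞) := WithBot.coe_le_coe.mp hlow
    lift e to ℕ using ne_top_of_le_ne_top (ENat.coe_ne_top _) he'
    exact ⟨e, he.symm⟩
  refine le_antisymm ?_ hlow
  rw [hd]
  exact_mod_cast natDegree_le_supportDim d M hdef hd.le P hP

end GrothLib.HilbSam
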