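import Mathlib.RingTheory.Length
import Mathlib.RingTheory.FiniteLength
import Mathlib.Data.Nat.Choose.Basic
import Mathlib.Algebra.Module.Submodule.Map
import Mathlib.Tactic

/-!
# Hilbert functions of graded systems

A graded system is a family of modules `V i` with commuting maps `x j : V i → V (i + 1)`.  It is
eventually generated if every subsystem is generated in bounded degree.
-/

set_option autoImplicit false

noncomputable section

namespace GrothLib.HilbSam

universe u v

/-- `f` is eventually a combination of the `C (i + k, k)`, `k < d`. -/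
def IsBinomForm (d : ℕ) (f : ℕ → ℤ) : Prop :=
  ∃ c : Fin d → ℤ, ∃ N : ℕ, ∀ i ≥ N, f i = ∑ k : Fin d, c k * ((i + (k : ℕ)).choose (k : ℕ) : ℤ)

theorem IsBinomForm.sub {d : ℕ} {f g : ℕ → ℤ} (hf : IsBinomForm d f) (hg : IsBinomForm d g) :
    IsBinomForm d (fun i => f i - g i) := by
  obtain ⟨c, N, hc⟩ := hf
  obtain ⟨c', N', hc'⟩ := hg
  refine ⟨fun k => c k - c' k, max N N', fun i hi => ?_⟩
  beta_reduce
  rw [hc i (le_of_max_le_left hi), hc' i (le_of_max_le_right hi), ← Finset.sum_sub_distrib]
  exact Finset.sum_congr rfl fun k _ => by ring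

theorem IsBinomForm.exists_shift {d : ℕ} {f : ℕ → ℤ} (hf : IsBinomForm d f) :
    ∃ c : Fin d → ℤ, ∃ N : ℕ, ∀ i ≥ N,
      f i = ∑ k : Fin d, c k * ((i + 1 + (k : ℕ)).choose (k : ℕ) : ℤ) := by
  obtain ⟨c, N, hc⟩ := hf
  -- `C (i + k, k) = C (i + 1 + k, k) - C (i + k, k - 1)`
  let e : ℕ → ℤ := fun k => if h : k < d then c ⟨k, h⟩ else 0
  refine ⟨fun k => e k - e ((k : ℕ) + 1), N, fun i hi => ?_⟩
  beta_reduce
  rw [hc i hi]
  have h1 : ∑ k : Fin d, c k * ((i + (k : ℕ)).choose (k : ℕ) : ℤ) =
      ∑ k ∈ Finset.range d, e k * ((i + k).choose k : ℤ) := by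
    rw [Finset.sum_range]
    exact Finset.sum_congr rfl fun k _ => by simp [e]
  have h2 : ∀ n : ℕ, ∑ k ∈ Finset.range n, e k * ((i + k).choose k : ℤ) =
      (∑ k ∈ Finset.range n, (e k - e (k + 1)) * ((i + 1 + k).choose k : ℤ)) +
        e n * (if n = 0 then 0 else ((i + n).choose (n - 1) : ℤ)) := by
    intro n
    induction n with
    | zero => simp
    | succ n ih =>
      rw [Finset.sum_range_succ, Finset.sum_range_succ, ih, if_neg (Nat.succ_ne_zero n),
        Nat.add_sub_cancel, show i + (n + 1) = i + 1 + n by ring]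
      rcases n with _ | n
      · simp
      · rw [if_neg (Nat.succ_ne_zero n), Nat.add_sub_cancel,
          show i + 1 + (n + 1) = (i + (n + 1)) + 1 by ring, Nat.choose_succ_succ']
        push_cast
        ring
  rw [h1, h2 d, Fin.sum_univ_eq_sum_range fun k => (e k - e (k + 1)) * ((i + 1 + k).choose k : ℤ)]
  simp [e]

theorem IsBinomForm.sum_step {d : ℕ} {f D : ℕ → ℤ} (hD : IsBinomForm d D) {N : ℕ}
    (h : ∀ i ≥ N, f (i + 1) - f i = D i) : IsBinomForm (d + 1) f := by
  obtain ⟨c, M, hc⟩ := hD.exists_shift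
  set g : ℕ → ℤ := fun i => f i - ∑ k : Fin d, c k * ((i + ((k : ℕ) + 1)).choose ((k : ℕ) + 1) : ℤ)
    with hg
  have hconst : ∀ i ≥ max N M, g i = g (max N M) := by
    intro i hi
    induction i, hi using Nat.le_induction with
    | base => rfl
    | succ i hi ih =>
      rw [← ih, hg]
      have e1 := h i (le_of_max_le_left hi)
      rw [hc i (le_of_max_le_right hi)] at e1
      simp only
      rw [sub_eq_sub_iff_sub_eq_sub, e1, ← Finset.sum_sub_distrib]
      refine Finset.sum_congr rfl fun k _ => ?_
      rw [show i + 1 + ((k : ℕ) + 1) = (i + 1 + (k : ℕ)) + 1 by ring, Nat.choose_succ_succ',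
        show i + ((k : ℕ) + 1) = i + 1 + (k : ℕ) by ring]
      push_cast
      ring
  refine ⟨Fin.cons (g (max N M)) c, max N M, fun i hi => ?_⟩
  rw [Fin.sum_univ_succ]
  simp only [Fin.cons_zero, Fin.cons_succ, Fin.val_zero, Fin.val_succ, Nat.choose_zero_right,
    Nat.cast_one, mul_one]
  rw [← hconst i hi, hg]
  simp

variable {A : Type u} [CommRing A]

/-- Every subsystem is generated in bounded degree. -/
def EvGen {d : ℕ} (V : ℕ → Type v) [∀ i, AddCommGroup (V i)] [∀ i, Module A (V i)]
    (x : Fin d → ∀ i, V i →ₗ[A] V (i + 1)) : Prop :=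
  ∀ W : ∀ i, Submodule A (V i), (∀ j i, (W i).map (x j i) ≤ W (i + 1)) →
    ∃ N, ∀ i ≥ N, W (i + 1) ≤ ⨆ j, (W i).map (x j i)

/-- The length as an integer. -/
def len (A : Type u) [CommRing A] (M : Type v) [AddCommGroup M] [Module A M] : ℤ :=
  ((Module.length A M).toNat : ℤ)

theorem len_exact {M N P : Type v} [AddCommGroup M] [Module A M] [AddCommGroup N] [Module A N]
    [AddCommGroup P] [Module A P] (f : N →ₗ[A] M) (g : M →ₗ[A] P) (hf : Function.Injective f)
    (hg : Function.Surjective g) (H : Function.Exact f g) (hM : Module.length A M ≠ ⊤) :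
    len A M = len A N + len A P := by
  have h := Module.length_eq_add_of_exact f g hf hg H
  rw [len, len, len, h]
  rw [h] at hM
  have hM : Module.length A N ≠ ⊤ ∧ Module.length A P ≠ ⊤ := WithTop.add_ne_top.mp hM
  rw [ENat.toNat_add hM.1 hM.2]
  push_cast
  rfl

theorem isFiniteLength_of_ne_top {M : Type v} [AddCommGroup M] [Module A M]
    (h : Module.length A M ≠ ⊤) : IsFiniteLength A M := Module.length_ne_top_iff.mp h

/-- The Hilbert function of an eventually generated system in `d` variables. -/
theorem isBinomForm_len (d : ℕ) : ∀ (V : ℕ → Type v) [∀ i, AddCommGroup (V i)]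
    [∀ i, Module A (V i)] (x : Fin d → ∀ i, V i →ₗ[A] V (i + 1)),
    (∀ j l i (v : V i), x j (i + 1) (x l i v) = x l (i + 1) (x j i v)) →
    (∀ i, Module.length A (V i) ≠ ⊤) → EvGen V x →
    IsBinomForm d fun i => len A (V i) := by
  induction d with
  | zero =>
    intro V _ _ x _ _ hgen
    obtain ⟨N, hN⟩ := hgen (fun i => ⊤) (fun j => j.elim0)
    refine ⟨Fin.elim0, N + 1, fun i hi => ?_⟩
    obtain ⟨i, rfl⟩ : ∃ i', i = i' + 1 := ⟨i - 1, by omega⟩
    have h0 : (⊤ : Submodule A (V (i + 1))) = ⊥ := le_bot_iff.mp ((hN i (by omega)).trans (by simp))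
    have : Subsingleton (V (i + 1)) := Submodule.subsingleton_iff A |>.mp (subsingleton_of_top_le_bot h0.le)
    simp [len, Module.length_eq_zero]
  | succ d ih =>
    intro V _ _ x hcomm hfin hgen
    let y : ∀ i, V i →ₗ[A] V (i + 1) := x (Fin.last d)
    -- the kernel
    let K : ℕ → Type v := fun i => LinearMap.ker (y i)
    let xK : Fin d → ∀ i, LinearMap.ker (y i) →ₗ[A] LinearMap.ker (y (i + 1)) := fun j i =>
      (x j.castSucc i).restrict fun v hv => by
        rw [LinearMap.mem_ker] at hv ⊢
        show x (Fin.last d) (i + 1) _ = 0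
        rw [hcomm, show x (Fin.last d) i v = 0 from hv, map_zero]
    have hK := ih (fun i => LinearMap.ker (y i)) xK
      (fun j l i v => Subtype.ext (hcomm _ _ _ _))
      (fun i => ne_top_of_le_ne_top (hfin i)
        (Module.length_le_of_injective _ (LinearMap.ker (y i)).injective_subtype))
      (fun W hW => by
        obtain ⟨N, hN⟩ := hgen (fun i => (W i).map (LinearMap.ker (y i)).subtype) (fun j i => by
          rintro _ ⟨_, ⟨w, hw, rfl⟩, rfl⟩
          induction j using Fin.lastCases with
          | last =>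
            have h0 : x (Fin.last d) i (w : V i) = 0 := w.2
            simp only [Submodule.coe_subtype, h0]
            exact zero_mem _
          | cast j => exact ⟨xK j i w, hW j i ⟨w, hw, rfl⟩, rfl⟩)
        refine ⟨N, fun i hi w hw => ?_⟩
        have h1 := hN i hi ⟨w, hw, rfl⟩
        have h2 : (⨆ j, ((W i).map (LinearMap.ker (y i)).subtype).map (x j i)) ≤
            (⨆ j, (W i).map (xK j i)).map (LinearMap.ker (y (i + 1))).subtype := by
          refine iSup_le fun j => ?_
          rintro _ ⟨_, ⟨z, hz, rfl⟩, rfl⟩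
          induction j using Fin.lastCases with
          | last =>
            have h0 : x (Fin.last d) i (z : V i) = 0 := z.2
            simp only [Submodule.coe_subtype, h0]
            exact zero_mem _
          | cast j => exact ⟨xK j i z, Submodule.mem_iSup_of_mem j ⟨z, hz, rfl⟩, rfl⟩
        obtain ⟨z, hz, e⟩ := h2 h1
        exact (Subtype.ext e : z = w) ▸ hz)
    -- the cokernel, shifted
    let R : ∀ i, Submodule A (V (i + 1)) := fun i => LinearMap.range (y i)
    let xQ : Fin d → ∀ i, (V (i + 1) ⧸ R i) →ₗ[A] (V (i + 1 + 1) ⧸ R (i + 1)) := fun j i =>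
      (R i).mapQ (R (i + 1)) (x j.castSucc (i + 1)) (by
        rintro _ ⟨v, rfl⟩
        exact ⟨x j.castSucc i v, (hcomm _ _ _ _)⟩)
    have hQ := ih (fun i => V (i + 1) ⧸ R i) xQ
      (fun j l i v => by
        obtain ⟨v, rfl⟩ := (R i).mkQ_surjective v
        show (R (i + 1 + 1)).mkQ _ = (R (i + 1 + 1)).mkQ _
        rw [hcomm])
      (fun i => ne_top_of_le_ne_top (hfin (i + 1))
        (Module.length_le_of_surjective _ (R i).mkQ_surjective))
      (fun W hW => by
        let W' : ∀ i, Submodule A (V i) := fun i => match i with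
          | 0 => ⊥
          | i + 1 => (W i).comap (R i).mkQ
        obtain ⟨N, hN⟩ := hgen W' (fun j i => by
          rintro _ ⟨v, hv, rfl⟩
          induction j using Fin.lastCases with
          | last =>
            show (R i).mkQ _ ∈ W i
            rw [Submodule.mkQ_apply, (Submodule.Quotient.mk_eq_zero (R i)).mpr ⟨v, rfl⟩]
            exact zero_mem _
          | cast j =>
            rcases i with _ | i
            · show (R 0).mkQ _ ∈ W 0
              rw [(Submodule.mem_bot A).mp hv, map_zero, map_zero]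
              exact zero_mem _
            · exact hW j i ⟨(R i).mkQ v, hv, rfl⟩)
        refine ⟨N, fun i hi w hw => ?_⟩
        obtain ⟨v, rfl⟩ := (R (i + 1)).mkQ_surjective w
        have h1 : v ∈ ⨆ j, (W' (i + 1)).map (x j (i + 1)) := hN (i + 1) (by omega) hw
        have h2 : (⨆ j, (W' (i + 1)).map (x j (i + 1))) ≤
            (⨆ j, (W i).map (xQ j i)).comap (R (i + 1)).mkQ := by
          refine iSup_le fun j => ?_
          rintro _ ⟨z, hz, rfl⟩
          rw [Submodule.mem_comap]
          induction j using Fin.lastCases with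
          | last =>
            rw [Submodule.mkQ_apply, (Submodule.Quotient.mk_eq_zero (R (i + 1))).mpr ⟨z, rfl⟩]
            exact zero_mem _
          | cast j => exact Submodule.mem_iSup_of_mem j ⟨(R i).mkQ z, hz, rfl⟩
        exact h2 h1)
    have hstep : ∀ i ≥ 0, len A (V (i + 1)) - len A (V i) =
        len A (V (i + 1) ⧸ R i) - len A (LinearMap.ker (y i)) := by
      intro i _
      have h1 := len_exact (LinearMap.ker (y i)).subtype (y i).rangeRestrict
        (LinearMap.ker (y i)).injective_subtype (y i).surjective_rangeRestrict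
        (LinearMap.exact_iff.mpr (by rw [LinearMap.ker_rangeRestrict, Submodule.range_subtype]))
        (hfin i)
      have h2 := len_exact (R i).subtype (R i).mkQ (R i).injective_subtype (R i).mkQ_surjective
        (LinearMap.exact_subtype_mkQ (R i)) (hfin (i + 1))
      have h3 : len A (LinearMap.range (y i)) = len A (R i) := rfl
      linarith
    exact IsBinomForm.sum_step (hQ.sub hK) hstep

end GrothLib.HilbSam
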