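import Groth.Agent.Lib.HilbSam.Graded
import Mathlib.Algebra.Polynomial.Basic
import Mathlib.Analysis.SpecificLimits.Basic

/-!
# Eventually polynomial functions
-/

set_option autoImplicit false

noncomputable section

open Polynomial Filter Topology

namespace GrothLib.HilbSam

/-- The polynomial `i ↦ C (i + k, k)`. -/
def binomPoly : ℕ → ℚ[X]
  | 0 => 1
  | k + 1 => binomPoly k * (X + C ((k : ℚ) + 1)) * C (((k : ℚ) + 1)⁻¹)

theorem eval_binomPoly (i k : ℕ) : (binomPoly k).eval (i : ℚ) = ((i + k).choose k : ℚ) := by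
  induction k with
  | zero => simp [binomPoly]
  | succ k ih =>
    simp only [binomPoly, eval_mul, ih, eval_add, eval_X, eval_C]
    have h := Nat.add_one_mul_choose_eq (i + k) k
    have h' : ((i : ℚ) + ((k : ℚ) + 1)) * ((i + k).choose k : ℚ) =
        ((i + (k + 1)).choose (k + 1) : ℚ) * ((k : ℚ) + 1) := by
      have := congrArg (Nat.cast (R := ℚ)) h
      push_cast at this
      rw [show i + (k + 1) = (i + k).succ from rfl]
      push_cast at this ⊢
      linarith
    field_simp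
    linarith

theorem natDegree_binomPoly_le (k : ℕ) : (binomPoly k).natDegree ≤ k := by
  induction k with
  | zero => simp [binomPoly]
  | succ k ih =>
    rw [binomPoly]
    refine natDegree_mul_C_le _ _ |>.trans (natDegree_mul_le.trans ?_)
    exact add_le_add ih (natDegree_X_add_C _).le

theorem IsBinomForm.exists_polynomial {n : ℕ} {f : ℕ → ℤ} (hf : IsBinomForm (n + 1) f) :
    ∃ P : ℚ[X], P.natDegree ≤ n ∧ ∃ N, ∀ i ≥ N, (f i : ℚ) = P.eval (i : ℚ) := by
  obtain ⟨c, N, hc⟩ := hf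
  refine ⟨∑ k : Fin (n + 1), C (c k : ℚ) * binomPoly k, ?_, N, fun i hi => ?_⟩
  · refine natDegree_sum_le_of_forall_le _ _ fun k _ => (natDegree_C_mul_le _ _).trans ?_
    exact (natDegree_binomPoly_le _).trans (Nat.lt_succ_iff.mp k.2)
  · rw [hc i hi, eval_finsetSum]
    simp [eval_binomPoly]

theorem tendsto_pow_div_pow {k n : ℕ} (h : k ≤ n) :
    Tendsto (fun t : ℕ => (t : ℝ) ^ k / (t : ℝ) ^ n) atTop (𝓝 (if k = n then 1 else 0)) := by
  by_cases e : k = n
  · subst e
    rw [if_pos rfl]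
    refine tendsto_const_nhds.congr' ((eventually_gt_atTop 0).mono fun t ht => ?_)
    simp only
    rw [div_self]
    positivity
  · rw [if_neg e]
    have h1 : Tendsto (fun t : ℕ => ((t : ℝ) ^ (n - k))⁻¹) atTop (𝓝 0) :=
      tendsto_inv_atTop_zero.comp ((tendsto_pow_atTop (by omega)).comp tendsto_natCast_atTop_atTop)
    refine h1.congr' ((eventually_gt_atTop 0).mono fun t ht => ?_)
    have : (t : ℝ) ≠ 0 := by positivity
    field_simp
    rw [← pow_add, Nat.sub_add_cancel h]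

theorem tendsto_eval_div_pow (P : ℚ[X]) {n : ℕ} (h : P.natDegree ≤ n) :
    Tendsto (fun t : ℕ => ((P.eval (t : ℚ) : ℚ) : ℝ) / (t : ℝ) ^ n) atTop (𝓝 (P.coeff n : ℝ)) := by
  have h1 : Tendsto (fun t : ℕ => ∑ k ∈ Finset.range (n + 1), (P.coeff k : ℝ) * ((t : ℝ) ^ k / (t : ℝ) ^ n))
      atTop (𝓝 (∑ k ∈ Finset.range (n + 1), (P.coeff k : ℝ) * (if k = n then 1 else 0))) :=
    tendsto_finset_sum _ fun k hk =>
      (tendsto_pow_div_pow (Nat.lt_succ_iff.mp (Finset.mem_range.mp hk))).const_mul _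
  have h2 : ∑ k ∈ Finset.range (n + 1), (P.coeff k : ℝ) * (if k = n then 1 else 0) = P.coeff n := by
    simp
  rw [← h2]
  refine h1.congr fun t => ?_
  rw [eval_eq_sum_range' (Nat.lt_succ_of_le h)]
  push_cast
  rw [Finset.sum_div]
  exact Finset.sum_congr rfl fun k _ => by ring

/-- An eventually nonnegative polynomial bounded by a multiple of `t ^ n` has degree `≤ n`. -/
theorem natDegree_le_of_bound (P : ℚ[X]) (n : ℕ) (C : ℝ)
    (h : ∀ᶠ t : ℕ in atTop, |((P.eval (t : ℚ) : ℚ) : ℝ)| ≤ C * (t : ℝ) ^ n) : P.natDegree ≤ n := by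
  by_contra hlt
  push Not at hlt
  have h1 := (tendsto_eval_div_pow P le_rfl).abs
  have h2 : Tendsto (fun t : ℕ => C * ((t : ℝ) ^ n / (t : ℝ) ^ P.natDegree)) atTop (𝓝 0) := by
    simpa [hlt.ne] using (tendsto_pow_div_pow hlt.le).const_mul C
  have h3 : |(P.coeff P.natDegree : ℝ)| ≤ 0 := by
    refine le_of_tendsto_of_tendsto h1 h2 ?_
    filter_upwards [h, eventually_gt_atTop 0] with t ht ht0
    rw [abs_div, abs_of_nonneg (a := (t : ℝ) ^ P.natDegree) (by positivity), ← mul_div_assoc]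
    exact div_le_div_of_nonneg_right ht (by positivity)
  have h4 : P.coeff P.natDegree = 0 := by
    have := abs_nonpos_iff.mp h3
    exact_mod_cast this
  have h5 : P = 0 := leadingCoeff_eq_zero.mp h4
  simp [h5] at hlt

theorem abs_eval_le (P : ℚ[X]) {n : ℕ} (h : P.natDegree ≤ n) :
    ∃ C : ℝ, ∀ᶠ t : ℕ in atTop, |((P.eval (t : ℚ) : ℚ) : ℝ)| ≤ C * (t : ℝ) ^ n := by
  refine ⟨|(P.coeff n : ℝ)| + 1, ?_⟩
  filter_upwards [(tendsto_eval_div_pow P h).abs.eventually_lt_const (lt_add_one _),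
    eventually_gt_atTop 0] with t ht ht0
  rw [abs_div, abs_of_nonneg (a := (t : ℝ) ^ n) (by positivity),
    div_lt_iff₀ (by positivity)] at ht
  exact ht.le

theorem natDegree_le_of_le {P Q : ℚ[X]}
    (h : ∀ᶠ t : ℕ in atTop, 0 ≤ P.eval (t : ℚ) ∧ P.eval (t : ℚ) ≤ Q.eval (t : ℚ)) :
    P.natDegree ≤ Q.natDegree := by
  obtain ⟨C, hC⟩ := abs_eval_le Q le_rfl
  refine natDegree_le_of_bound P _ C ?_
  filter_upwards [h, hC] with t ht htC
  refine le_trans ?_ htC
  rw [abs_of_nonneg (by exact_mod_cast ht.1), abs_of_nonneg (by exact_mod_cast ht.1.trans ht.2)]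
  exact_mod_cast ht.2

theorem natDegree_sub_comp_le (P : ℚ[X]) (c : ℕ) :
    (P - P.comp (X - C (c : ℚ))).natDegree ≤ P.natDegree - 1 := by
  by_cases h0 : P.natDegree = 0
  · obtain ⟨a, ha⟩ : ∃ a, P = C a := ⟨_, eq_C_of_natDegree_eq_zero h0⟩
    subst ha
    simp
  have hP : P ≠ 0 := fun e => h0 (by simp [e])
  have hdeg : (P.comp (X - C (c : ℚ))).natDegree = P.natDegree := by
    rw [natDegree_comp, natDegree_X_sub_C, mul_one]
  have hP' : P.comp (X - C (c : ℚ)) ≠ 0 := fun e => h0 (by rw [← hdeg, e, natDegree_zero])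
  have hlead : (P.comp (X - C (c : ℚ))).leadingCoeff = P.leadingCoeff := by
    rw [leadingCoeff_comp (by rw [natDegree_X_sub_C]; exact one_ne_zero), leadingCoeff_X_sub_C, one_pow, mul_one]
  have h1 : (P - P.comp (X - C (c : ℚ))).degree < P.degree :=
    degree_sub_lt_left (by rw [degree_eq_natDegree hP, degree_eq_natDegree hP', hdeg]) hP hlead.symm
  by_cases hd : P - P.comp (X - C (c : ℚ)) = 0
  · rw [hd, natDegree_zero]
    exact Nat.zero_le _
  · have := natDegree_lt_natDegree hd h1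
    omega

theorem tendsto_shift {f : ℕ → ℝ} {n : ℕ} {e : ℝ} (c : ℕ)
    (h : Tendsto (fun t : ℕ => f t / (t : ℝ) ^ n) atTop (𝓝 e)) :
    Tendsto (fun t : ℕ => f (t - c) / (t : ℝ) ^ n) atTop (𝓝 e) := by
  rw [← tendsto_add_atTop_iff_nat c]
  have h1 : Tendsto (fun t : ℕ => ((t : ℝ) / ((t : ℝ) + (c : ℝ))) ^ n) atTop (𝓝 1) := by
    simpa using (tendsto_natCast_div_add_atTop (c : ℝ)).pow n
  have h2 := h.mul h1
  rw [mul_one] at h2
  refine h2.congr' ((eventually_gt_atTop 0).mono fun t ht => ?_)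
  have : (t : ℝ) ^ n ≠ 0 := by positivity
  push_cast
  rw [div_pow, Nat.add_sub_cancel]
  field_simp

end GrothLib.HilbSam
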