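import Groth.Agent.Lib.HilbSam.Filtration
import Groth.Agent.Lib.RegLoc.QuasiRegular
import Mathlib.Algebra.Order.Antidiag.FinsuppEquiv
import Mathlib.RingTheory.SimpleModule.Basic

/-!
# The Hilbert–Samuel function of a regular local ring
-/

set_option autoImplicit false

noncomputable section

open IsLocalRing MvPolynomial

namespace GrothLib.HilbSam

universe u

variable {A : Type u} [CommRing A] [IsRegularLocalRing A]

theorem length_gr_maximalIdeal {d : ℕ} (x : Fin d → A) (hd : (maximalIdeal A).spanFinrank = d)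
    (hx : Ideal.span (Set.range x) = maximalIdeal A) (i : ℕ) :
    Module.length A (gr (maximalIdeal A) A i) = ((d + i - 1).choose i : ℕ∞) := by
  classical
  let ι := ((Finset.univ : Finset (Fin d)).finsuppAntidiag i : Finset (Fin d →₀ ℕ))
  let F : (ι → A) → MvPolynomial (Fin d) A := fun c => ∑ a : ι, monomial (a : Fin d →₀ ℕ) (c a)
  have hdeg : ∀ a : ι, (a : Fin d →₀ ℕ).degree = i := fun a => by
    have := (Finset.mem_finsuppAntidiag.mp a.2).1
    rw [Finsupp.degree_eq_sum]
    exact this
  have hF : ∀ c, (F c).IsHomogeneous i := fun c =>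
    IsHomogeneous.sum _ _ _ fun a _ => isHomogeneous_monomial _ (hdeg a)
  have hcoeff : ∀ c (a : ι), coeff (a : Fin d →₀ ℕ) (F c) = c a := fun c a => by
    simp only [F, coeff_sum, coeff_monomial]
    rw [Finset.sum_eq_single a]
    · simp
    · intro b _ hb
      rw [if_neg fun e => hb (Subtype.ext e)]
    · intro h; exact absurd (Finset.mem_univ a) h
  have hcoeff0 : ∀ c (m : Fin d →₀ ℕ), m.degree ≠ i → coeff m (F c) = 0 := fun c m hm => by
    simp only [F, coeff_sum, coeff_monomial]
    exact Finset.sum_eq_zero fun b _ => if_neg fun e : (b : Fin d →₀ ℕ) = m => hm (e ▸ hdeg b)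
  have hmem : ∀ c, eval x (F c) ∈ (maximalIdeal A ^ i • ⊤ : Submodule A A) := fun c => by
    rw [smul_eq_mul, Ideal.mul_top, ← hx]
    exact (Ideal.mem_span_pow_iff_exists_isHomogeneous x _).2 ⟨F c, hF c, rfl⟩
  let e : (ι → A) →ₗ[A] ↥(maximalIdeal A ^ i • ⊤ : Submodule A A) :=
    { toFun := fun c => ⟨eval x (F c), hmem c⟩
      map_add' := fun c c' => Subtype.ext (by simp [F, Finset.sum_add_distrib])
      map_smul' := fun r c => Subtype.ext (by simp [F, Finset.mul_sum, eval_monomial, mul_assoc]) }
  let φ := (grSub (maximalIdeal A) A i).mkQ ∘ₗ e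
  let ψ : (ι → A) →ₗ[A] (ι → A ⧸ maximalIdeal A) :=
    LinearMap.pi fun a => (Submodule.mkQ (maximalIdeal A)).comp (LinearMap.proj a)
  have hψ : Function.Surjective ψ := fun c => by
    choose b hb using fun a => Submodule.mkQ_surjective _ (c a)
    exact ⟨b, funext hb⟩
  have hφ : Function.Surjective φ := by
    intro w
    obtain ⟨⟨v, hv⟩, rfl⟩ := (grSub (maximalIdeal A) A i).mkQ_surjective w
    have hv' : v ∈ Ideal.span (Set.range x) ^ i := by
      rw [smul_eq_mul, Ideal.mul_top, ← hx] at hv
      exact hv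
    obtain ⟨G, hG, hGe⟩ := (Ideal.mem_span_pow_iff_exists_isHomogeneous x _).1 hv'
    refine ⟨fun a => coeff (a : Fin d →₀ ℕ) G, congrArg _ (Subtype.ext ?_)⟩
    show eval x (F fun a => coeff (a : Fin d →₀ ℕ) G) = v
    rw [← hGe]
    congr 1
    refine MvPolynomial.ext _ _ fun m => ?_
    by_cases hm : m.degree = i
    · exact hcoeff _ ⟨m, Finset.mem_finsuppAntidiag.mpr
        ⟨by rw [← Finsupp.degree_eq_sum]; exact hm, Finset.subset_univ _⟩⟩
    · rw [hcoeff0 _ m hm, hG.coeff_eq_zero hm]
  have hker : LinearMap.ker φ = LinearMap.ker ψ := by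
    ext c
    have h1 : c ∈ LinearMap.ker φ ↔ eval x (F c) ∈ maximalIdeal A ^ (i + 1) := by
      rw [LinearMap.mem_ker, LinearMap.comp_apply, Submodule.mkQ_apply,
        Submodule.Quotient.mk_eq_zero]
      show eval x (F c) ∈ (maximalIdeal A ^ (i + 1) • ⊤ : Submodule A A) ↔ _
      rw [smul_eq_mul, Ideal.mul_top]
    have h2 : c ∈ LinearMap.ker ψ ↔ ∀ a, c a ∈ maximalIdeal A := by
      rw [LinearMap.mem_ker, funext_iff]
      exact forall_congr' fun a => Submodule.Quotient.mk_eq_zero _
    rw [h1, h2]
    constructor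
    · intro h a
      have h3 := GrothLib.RegLoc.map_eq_zero_of_eval_mem_pow_succ
        (GrothLib.RegLoc.regularFromRight_of_span_eq x hd hx) (hF c) (by rwa [hx])
      have h4 := congrArg (coeff (a : Fin d →₀ ℕ)) h3
      rw [coeff_map, coeff_zero, hcoeff, Ideal.Quotient.eq_zero_iff_mem] at h4
      rw [hx] at h4
      exact h4
    · intro h
      rw [pow_succ', ← hx]
      refine GrothLib.RegLoc.eval_mem_mul_pow x (hF c) fun m => ?_
      by_cases hm : m.degree = i
      · rw [hx, hcoeff c ⟨m, Finset.mem_finsuppAntidiag.mpr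
          ⟨by rw [← Finsupp.degree_eq_sum]; exact hm, Finset.subset_univ _⟩⟩]
        exact h _
      · rw [hcoeff0 _ m hm]
        exact zero_mem _
  have hsimple : IsSimpleModule A (A ⧸ maximalIdeal A) :=
    isSimpleModule_iff_isCoatom.mpr (maximalIdeal.isMaximal A).out
  rw [← (LinearMap.quotKerEquivOfSurjective φ hφ).length_eq,
    (Submodule.quotEquivOfEq _ _ hker).length_eq,
    (LinearMap.quotKerEquivOfSurjective ψ hψ).length_eq, Module.length_pi_of_fintype]
  simp only [Module.length_eq_one, Finset.sum_const, Finset.card_univ, nsmul_eq_mul, mul_one]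
  rw [Fintype.card_coe, Finset.card_finsuppAntidiag_nat_eq_choose, Finset.card_univ, Fintype.card_fin]

theorem length_quotient_maximalIdeal_pow {d : ℕ} (hd : ringKrullDim A = d) (i : ℕ) (hi : 1 ≤ i) :
    Module.length A (A ⧸ maximalIdeal A ^ i) = ((i + d - 1).choose d : ℕ∞) := by
  have hd' : (maximalIdeal A).spanFinrank = d := by
    have := IsRegularLocalRing.spanFinrank_maximalIdeal (R := A)
    rw [hd] at this
    exact_mod_cast this
  obtain ⟨z, hz⟩ := GrothLib.RegLoc.exists_generators_fin (maximalIdeal A)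
  let x : Fin d → A := z ∘ Fin.cast hd'.symm
  have hx : Ideal.span (Set.range x) = maximalIdeal A := by
    rw [Set.range_comp, (Fin.rightInverse_cast hd'.symm).surjective.range_eq, Set.image_univ, hz]
  have key : ∀ j, Module.length A (A ⧸ (maximalIdeal A ^ (j + 1) • ⊤ : Submodule A A)) =
      ((j + d).choose d : ℕ∞) := by
    intro j
    induction j with
    | zero =>
      rw [length_quotient_succ, length_gr_maximalIdeal x hd' hx 0]
      have : Subsingleton (A ⧸ (maximalIdeal A ^ 0 • ⊤ : Submodule A A)) := by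
        rw [Submodule.Quotient.subsingleton_iff, pow_zero, Ideal.one_eq_top, Submodule.top_smul]
      simp [Module.length_eq_zero]
    | succ j ih =>
      rw [length_quotient_succ, length_gr_maximalIdeal x hd' hx (j + 1), ih]
      norm_cast
      rcases d with _ | d
      · simp
      · rw [show d + 1 + (j + 1) - 1 = (j + d) + 1 by omega,
          show j + 1 + (d + 1) = ((j + d) + 1) + 1 by omega, show j + (d + 1) = (j + d) + 1 by omega,
          Nat.choose_succ_succ' (j + d + 1) d, Nat.add_right_cancel_iff]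
        exact Nat.choose_symm_of_eq_add (by omega)
  obtain ⟨j, rfl⟩ := Nat.exists_eq_add_of_le' hi
  rw [show j + 1 + d - 1 = j + d by omega, ← key j]
  exact (Submodule.quotEquivOfEq _ _ (by rw [smul_eq_mul, Ideal.mul_top])).length_eq

end GrothLib.HilbSam
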